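import Mathlib
import Cfsg.Agent.Lib.Helper18.ThompsonReplacement
import Cfsg.Agent.Lib.Helper1.GillamRepl
import Cfsg.Agent.S5306
import Cfsg.Agent.Lib.Helper5.ElemAb

set_option autoImplicit false

open scoped Pointwise

namespace Cfsg.Agent.Lib.Helper1.TNPC

open Cfsg.Agent.Lib.Helper18 Cfsg.Agent.Lib.Helper1

variable {G : Type*} [Group G]

theorem exists_thompson_element' [Finite G] {p : ℕ} [Fact p.Prime] {A B : Subgroup G}
    (hT : IsPGroup p ↥(A ⊔ B))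
    (hAB : A ≤ Subgroup.normalizer (B : Set G)) (hBA : ¬ B ≤ Subgroup.normalizer (A : Set G)) :
    ∃ x ∈ B, x ∉ Subgroup.normalizer (A : Set G) ∧
      ∀ a ∈ A, x * a * x⁻¹ * a⁻¹ ∈ Subgroup.normalizer (A : Set G) := by
  set N := B ⊓ Subgroup.normalizer (A : Set G) with hN
  have hNn : N ≤ Subgroup.normalizer (A : Set G) := inf_le_right
  have hAn : A ≤ Subgroup.normalizer (A : Set G) := Subgroup.le_normalizer
  have hHT : A ⊔ N ≤ A ⊔ B := sup_le_sup_left inf_le_left A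
  have hHset : ((A ⊔ N : Subgroup G) : Set G) = (A : Set G) * (N : Set G) :=
    Subgroup.coe_mul_of_right_le_normalizer_left A N hNn
  have hTset : ((A ⊔ B : Subgroup G) : Set G) = (A : Set G) * (B : Set G) :=
    Subgroup.coe_mul_of_left_le_normalizer_right A B hAB
  have hHB : ∀ y ∈ A ⊔ N, y ∈ B → y ∈ N := by
    intro y hy hyB
    have hy' : y ∈ ((A ⊔ N : Subgroup G) : Set G) := hy
    rw [hHset] at hy'
    obtain ⟨a, ha, n, hn, rfl⟩ := hy'
    have haB : a ∈ B := by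
      have : a = (a * n) * n⁻¹ := by simp
      rw [this]
      exact B.mul_mem hyB (B.inv_mem hn.1)
    exact N.mul_mem ⟨haB, hAn ha⟩ hn
  have hlt : A ⊔ N < A ⊔ B := by
    refine lt_of_le_of_ne hHT ?_
    intro heq
    apply hBA
    intro b hb
    have hb' : b ∈ A ⊔ N := heq ▸ (le_sup_right : B ≤ A ⊔ B) hb
    exact (hHB b hb' hb).2
  obtain ⟨z, hzT, hzN, hzH⟩ := exists_mem_normalizer_not_mem_of_lt_pGroup hT hlt
  have hzT' : z ∈ ((A ⊔ B : Subgroup G) : Set G) := hzT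
  rw [hTset] at hzT'
  obtain ⟨a, ha, b, hb, rfl⟩ := hzT'
  have haH : a ∈ A ⊔ N := (le_sup_left : A ≤ A ⊔ N) ha
  have hbNH : b ∈ Subgroup.normalizer ((A ⊔ N : Subgroup G) : Set G) := by
    have : b = a⁻¹ * (a * b) := by simp
    rw [this]
    exact Subgroup.mul_mem _ (Subgroup.inv_mem _ (Subgroup.le_normalizer haH)) hzN
  have hbH : b ∉ A ⊔ N := fun h => hzH (Subgroup.mul_mem _ haH h)
  refine ⟨b, hb, fun h => hbH ((le_sup_right : N ≤ A ⊔ N) ⟨hb, h⟩), ?_⟩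
  intro a' ha'
  have h1 : b * a' * b⁻¹ ∈ A ⊔ N :=
    (Subgroup.mem_normalizer_iff.mp hbNH a').mp ((le_sup_left : A ≤ A ⊔ N) ha')
  have h2 : A ⊔ N ≤ Subgroup.normalizer (A : Set G) := sup_le hAn hNn
  exact Subgroup.mul_mem _ (h2 h1) (Subgroup.inv_mem _ (hAn ha'))

theorem repl_core [Finite G] {A B : Subgroup G}
    (hA : IsMulCommutative A) (hB : IsMulCommutative B)
    (hAB : A ≤ Subgroup.normalizer (B : Set G))
    (x : G) (hxB : x ∈ B)
    (hxN : ∀ a ∈ A, x * a * x⁻¹ * a⁻¹ ∈ Subgroup.normalizer (A : Set G))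
    (hxA : x ∉ Subgroup.normalizer (A : Set G)) :
    ∃ M K : Subgroup G, M ≤ B ∧ K ≤ A ∧ M ≤ Subgroup.centralizer (K : Set G) ∧
      Nat.card A ≤ Nat.card ↥(M ⊔ K) ∧ A ⊓ B < (M ⊔ K) ⊓ B ∧
      M ⊔ K ≤ Subgroup.normalizer (A : Set G) := by
  have hAab : ∀ a ∈ A, ∀ a' ∈ A, a * a' = a' * a := by
    intro a ha a' ha'
    have := (Subgroup.le_centralizer_iff_isMulCommutative.mpr hA) ha
    rw [Subgroup.mem_centralizer_iff] at this
    exact (this a' ha').symm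
  have hBab : ∀ b ∈ B, ∀ b' ∈ B, b * b' = b' * b := by
    intro b hb b' hb'
    have := (Subgroup.le_centralizer_iff_isMulCommutative.mpr hB) hb
    rw [Subgroup.mem_centralizer_iff] at this
    exact (this b' hb').symm
  set φ : G → G := fun a => x * a * x⁻¹ * a⁻¹ with hφ
  have hφB : ∀ a ∈ A, φ a ∈ B := by
    intro a ha
    have h1 : a * x⁻¹ * a⁻¹ ∈ B :=
      (Subgroup.mem_normalizer_iff.mp (hAB ha) x⁻¹).mp (B.inv_mem hxB)
    have : φ a = x * (a * x⁻¹ * a⁻¹) := by simp [hφ, mul_assoc]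
    rw [this]
    exact B.mul_mem hxB h1
  have hF1 : ∀ n ∈ B, n ∈ Subgroup.normalizer (A : Set G) → ∀ a ∈ A,
      n * a * n⁻¹ * a⁻¹ ∈ A ⊓ B := by
    intro n hnB hnN a ha
    refine ⟨?_, ?_⟩
    · exact A.mul_mem ((Subgroup.mem_normalizer_iff.mp hnN a).mp ha) (A.inv_mem ha)
    · have h1 : a * n⁻¹ * a⁻¹ ∈ B :=
        (Subgroup.mem_normalizer_iff.mp (hAB ha) n⁻¹).mp (B.inv_mem hnB)
      have : n * a * n⁻¹ * a⁻¹ = n * (a * n⁻¹ * a⁻¹) := by simp [mul_assoc]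
      rw [this]
      exact B.mul_mem hnB h1
  have hF3 : ∀ a ∈ A, ∀ a' ∈ A, ∃ e ∈ A ⊓ B, φ (a * a') = φ a * e * φ a' := by
    intro a ha a' ha'
    refine ⟨(φ a' * a * (φ a')⁻¹ * a⁻¹)⁻¹,
      Subgroup.inv_mem _ (hF1 _ (hφB a' ha') (hxN a' ha') a ha), ?_⟩
    simp [hφ, mul_assoc]
  let K : Subgroup G :=
    { carrier := {a | a ∈ A ∧ φ a ∈ A}
      one_mem' := ⟨A.one_mem, by simp [hφ]⟩
      mul_mem' := by
        rintro a a' ⟨ha, hfa⟩ ⟨ha', hfa'⟩
        refine ⟨A.mul_mem ha ha', ?_⟩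
        obtain ⟨e, he, heq⟩ := hF3 a ha a' ha'
        rw [heq]
        exact A.mul_mem (A.mul_mem hfa he.1) hfa'
      inv_mem' := by
        rintro a ⟨ha, hfa⟩
        refine ⟨A.inv_mem ha, ?_⟩
        have : φ a⁻¹ = a⁻¹ * (φ a)⁻¹ * a := by simp [hφ, mul_assoc]
        rw [this]
        exact A.mul_mem (A.mul_mem (A.inv_mem ha) (A.inv_mem hfa)) ha }
  have hKA : K ≤ A := fun a ha => ha.1
  set M := Subgroup.closure (φ '' (A : Set G)) with hM
  have hMB : M ≤ B := by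
    rw [hM, Subgroup.closure_le]
    rintro _ ⟨a, ha, rfl⟩
    exact hφB a ha
  have hMN : M ≤ Subgroup.normalizer (A : Set G) := by
    rw [hM, Subgroup.closure_le]
    rintro _ ⟨a, ha, rfl⟩
    exact hxN a ha
  have hφM : ∀ a ∈ A, φ a ∈ M := fun a ha => Subgroup.subset_closure ⟨a, ha, rfl⟩
  have hMK : M ≤ Subgroup.centralizer (K : Set G) := by
    rw [hM, Subgroup.closure_le]
    rintro _ ⟨a, ha, rfl⟩
    rw [SetLike.mem_coe, Subgroup.mem_centralizer_iff]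
    intro k hk
    obtain ⟨hkA, hfk⟩ := hk
    have hfkB : φ k ∈ B := hφB k hkA
    set e := (φ k)⁻¹ with he
    have heA : e ∈ A := A.inv_mem hfk
    have heB : e ∈ B := B.inv_mem hfkB
    have h1 : k * x = e * x * k := by simp [he, hφ, mul_assoc]
    have h2 : k * a = a * k := hAab k hkA a ha
    have h3 : e * φ a = φ a * e := hBab e heB _ (hφB a ha)
    have hc1 : k * a * k⁻¹ = a := by rw [h2]; group
    have hc2 : k * x * k⁻¹ = e * x := by rw [h1]; group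
    have hc3 : a * e⁻¹ * a⁻¹ = e⁻¹ := by rw [hAab a ha e⁻¹ (A.inv_mem heA)]; group
    have key : k * φ a * k⁻¹ = φ a := by
      have s1 : k * φ a * k⁻¹ =
          (k * x * k⁻¹) * (k * a * k⁻¹) * (k * x * k⁻¹)⁻¹ * (k * a * k⁻¹)⁻¹ := by
        simp only [hφ]; group
      rw [s1, hc1, hc2]
      have s2 : e * x * a * (e * x)⁻¹ * a⁻¹ = e * (x * a * x⁻¹ * a⁻¹) * (a * e⁻¹ * a⁻¹) := by
        group
      rw [s2, hc3]
      show e * φ a * e⁻¹ = φ a
      rw [h3]; group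
    show k * φ a = φ a * k
    calc k * φ a = k * φ a * k⁻¹ * k := by group
      _ = φ a * k := by rw [key]
  have hstep : ∀ a ∈ A, ∀ b ∈ A, ((φ a)⁻¹ * φ b ∈ A ↔ a⁻¹ * b ∈ K) := by
    intro a ha b hb
    have hab : a⁻¹ * b ∈ A := A.mul_mem (A.inv_mem ha) hb
    obtain ⟨e, he, heq⟩ := hF3 a ha (a⁻¹ * b) hab
    have hfb : φ b = φ a * e * φ (a⁻¹ * b) := by
      rw [← heq]; simp
    have h2 : (φ a)⁻¹ * φ b = e * φ (a⁻¹ * b) := by rw [hfb]; group
    rw [h2]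
    constructor
    · intro h
      refine ⟨hab, ?_⟩
      have : φ (a⁻¹ * b) = e⁻¹ * (e * φ (a⁻¹ * b)) := by group
      rw [this]
      exact A.mul_mem (A.inv_mem he.1) h
    · intro h
      exact A.mul_mem he.1 h.2
  have hcard : Nat.card A ≤ Nat.card ↥(M ⊔ K) :=
    card_le_card_sup_of_step φ hKA hφM hstep
  obtain ⟨a₀, ha₀, hxa₀⟩ := not_le_normalizer_iff_exists hxA
  refine ⟨M, K, hMB, hKA, hMK, hcard, ?_, sup_le hMN (le_trans hKA Subgroup.le_normalizer)⟩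
  have hEK : A ⊓ B ≤ K := by
    rintro e ⟨heA, heB⟩
    refine ⟨heA, ?_⟩
    have : φ e = 1 := by
      have h1 : x * e = e * x := hBab x hxB e heB
      show x * e * x⁻¹ * e⁻¹ = 1
      rw [h1]; group
    rw [this]; exact A.one_mem
  refine lt_of_le_of_ne (le_inf (le_trans hEK le_sup_right) inf_le_right) ?_
  intro heq
  have h1 : φ a₀ ∈ (M ⊔ K) ⊓ B := ⟨(le_sup_left : M ≤ M ⊔ K) (hφM a₀ ha₀), hφB a₀ ha₀⟩
  rw [← heq] at h1
  apply hxa₀
  have : x * a₀ * x⁻¹ = φ a₀ * a₀ := by simp [hφ, mul_assoc]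
  rw [this]
  exact A.mul_mem h1.1 ha₀

open Cfsg.Agent.S5306 in
theorem ea_sup {p : ℕ} {A B : Subgroup G} (hA : Cfsg.IsElementaryAbelian p A)
    (hB : Cfsg.IsElementaryAbelian p B) (hAB : B ≤ Subgroup.centralizer (A : Set G)) :
    Cfsg.IsElementaryAbelian p (A ⊔ B) := by
  rw [Subgroup.sup_eq_closure]
  apply Cfsg.Agent.Lib.Helper5.elemAb_closure
  · rintro y (hy | hy) z (hz | hz)
    · haveI := hA.1
      exact setLike_mul_comm hy hz
    · exact hAB hz y hy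
    · exact (hAB hy z hz).symm
    · haveI := hB.1
      exact setLike_mul_comm hy hz
  · rintro y (hy | hy)
    · exact hA.2 y hy
    · exact hB.2 y hy

open Cfsg.Agent.S5306 in
theorem ea_replacement [Finite G] {p : ℕ} [Fact p.Prime] {P A V : Subgroup G}
    (hP : IsPGroup p P) (hA : A ∈ MaxEA p P) (hV : Cfsg.IsElementaryAbelian p V) (hVP : V ≤ P)
    (hAV : A ≤ Subgroup.normalizer (V : Set G)) (hVA : ¬ V ≤ Subgroup.normalizer (A : Set G)) :
    ∃ A' ∈ MaxEA p P, A ⊓ V < A' ⊓ V ∧ A' ≤ Subgroup.normalizer (A : Set G) := by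
  obtain ⟨hAP, hAea, hAmax⟩ := hA
  have hT : IsPGroup p ↥(A ⊔ V) := hP.to_le (sup_le hAP hVP)
  obtain ⟨x, hxV, hxA, hxN⟩ := exists_thompson_element' hT hAV hVA
  obtain ⟨M, K, hMV, hKA, hMK, hcard, hlt, hN⟩ :=
    repl_core hAea.1 hV.1 hAV x hxV hxN hxA
  have hMea : Cfsg.IsElementaryAbelian p M := Cfsg.Agent.Lib.Helper5.elemAb_of_le hMV hV
  have hKea : Cfsg.IsElementaryAbelian p K := Cfsg.Agent.Lib.Helper5.elemAb_of_le hKA hAea
  have hsup : Cfsg.IsElementaryAbelian p (M ⊔ K) := by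
    rw [sup_comm]
    exact ea_sup hKea hMea hMK
  have hle : M ⊔ K ≤ P := sup_le (hMV.trans hVP) (hKA.trans hAP)
  refine ⟨M ⊔ K, ⟨hle, hsup, ?_⟩, hlt, hN⟩
  intro B hBP hBea
  exact (hAmax B hBP hBea).trans hcard

end Cfsg.Agent.Lib.Helper1.TNPC
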