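import Mathlib
import Cfsg.Prelude.Def_Transfer
import Cfsg.Agent.S0072
import Cfsg.Agent.S5306
import Cfsg.Agent.Lib.Helper1.NPC
import Cfsg.Agent.Lib.Helper1.NPC2

set_option autoImplicit false

namespace Cfsg.Agent.Lib.Helper1.TNPC

open Cfsg Cfsg.Agent.S5306

section NPC

variable {G : Type*} [Group G] [Finite G] {p : ℕ} [hp : Fact p.Prime]

theorem npc_iff : HasNormalPComplement p G ↔
    ∃ N : Subgroup G, N.Normal ∧ (Nat.card N).Coprime p ∧ ∃ k : ℕ, N.index = p ^ k := by
  constructor
  · rintro ⟨P, N, hNn, hN⟩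
    refine ⟨N, hNn, card_coprime_of_isComplement'_sylow P hN, ?_⟩
    obtain ⟨k, hk⟩ := IsPGroup.iff_card.mp P.isPGroup'
    exact ⟨k, by rw [index_eq_card_of_isComplement' hN, hk]⟩
  · rintro ⟨N, hNn, hc, k, hk⟩
    let P : Sylow p G := default
    exact ⟨P, N, hNn, Cfsg.Agent.S0072.isComplement'_sylow_of_normal_pcomp N hc hk P⟩

theorem npc_of_surjective {G' : Type*} [Group G'] [Finite G'] (f : G →* G')
    (hf : Function.Surjective f) (h : HasNormalPComplement p G) : HasNormalPComplement p G' := by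
  obtain ⟨N, hNn, hc, k, hk⟩ := npc_iff.mp h
  haveI := hNn
  rw [npc_iff]
  refine ⟨N.map f, Subgroup.Normal.map hNn f hf, ?_, ?_⟩
  · have h1 : Nat.card (N.map f) ∣ Nat.card N := Subgroup.card_map_dvd N f
    exact Nat.Coprime.coprime_dvd_left h1 hc
  · have h1 : (N.map f).index ∣ N.index := Subgroup.index_map_dvd N hf
    rw [hk] at h1
    obtain ⟨j, _, hj⟩ := (Nat.dvd_prime_pow hp.out).mp h1
    exact ⟨j, hj⟩

theorem npc_of_equiv {G' : Type*} [Group G'] [Finite G'] (e : G ≃* G')
    (h : HasNormalPComplement p G) : HasNormalPComplement p G' :=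
  npc_of_surjective e.toMonoidHom e.surjective h

theorem npc_of_le {A B : Subgroup G} (hBA : B ≤ A) (h : HasNormalPComplement p ↥A) :
    HasNormalPComplement p ↥B := by
  have h1 := Cfsg.Agent.S0072.hasNormalPComplement_subgroup h (B.subgroupOf A)
  exact npc_of_equiv (Subgroup.subgroupOfEquivOfLe hBA) h1

theorem npc_top_iff : HasNormalPComplement p ↥(⊤ : Subgroup G) ↔ HasNormalPComplement p G :=
  ⟨npc_of_equiv Subgroup.topEquiv, npc_of_equiv Subgroup.topEquiv.symm⟩

theorem npc_map {G' : Type*} [Group G'] [Finite G'] (f : G →* G') (S : Subgroup G)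
    (h : HasNormalPComplement p ↥S) : HasNormalPComplement p ↥(S.map f) :=
  npc_of_surjective (f.subgroupMap S) (f.subgroupMap_surjective S) h

theorem npc_of_map_injective {G' : Type*} [Group G'] [Finite G'] (f : G →* G')
    (hf : Function.Injective f) (S : Subgroup G)
    (h : HasNormalPComplement p ↥(S.map f)) : HasNormalPComplement p ↥S :=
  npc_of_equiv (S.equivMapOfInjective f hf).symm h

theorem npc_of_quotient (T : Subgroup G) [T.Normal] (hT : (Nat.card T).Coprime p)
    (h : HasNormalPComplement p (G ⧸ T)) : HasNormalPComplement p G := by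
  obtain ⟨N, hNn, hc, k, hk⟩ := npc_iff.mp h
  haveI := hNn
  rw [npc_iff]
  refine ⟨N.comap (QuotientGroup.mk' T), inferInstance, ?_, k, ?_⟩
  · have h1 : Nat.card (N.comap (QuotientGroup.mk' T)) = Nat.card T * Nat.card N := by
      have e1 := Subgroup.card_mul_index (N.comap (QuotientGroup.mk' T))
      rw [Subgroup.index_comap_of_surjective _ (QuotientGroup.mk'_surjective T)] at e1
      have e2 := Subgroup.card_mul_index N
      have e3 := Subgroup.card_eq_card_quotient_mul_card_subgroup T
      have hpos : 0 < N.index := Nat.pos_of_ne_zero Subgroup.index_ne_zero_of_finite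
      apply Nat.eq_of_mul_eq_mul_right hpos
      rw [e1, e3, ← e2]
      ring
    rw [h1]
    exact Nat.Coprime.mul_left hT hc
  · rw [Subgroup.index_comap_of_surjective _ (QuotientGroup.mk'_surjective T), hk]

theorem npc_of_isPGroup (h : IsPGroup p G) : HasNormalPComplement p G := by
  rw [npc_iff]
  refine ⟨⊥, inferInstance, by simp, ?_⟩
  obtain ⟨k, hk⟩ := IsPGroup.iff_card.mp h
  exact ⟨k, by rw [Subgroup.index_bot, hk]⟩

end NPC

end Cfsg.Agent.Lib.Helper1.TNPC
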