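import Mathlib
import Cfsg.Agent.Lib.Helper1.TNPC.Basic

set_option autoImplicit false

namespace Cfsg.Agent.Lib.Helper1.TNPC

open Cfsg Cfsg.Agent.S5306

section TJ

variable {G : Type*} [Group G] {G' : Type*} [Group G'] {p : ℕ}

theorem card_map_of_injOn (f : G →* G') (S : Subgroup G) (hf : Set.InjOn f (S : Set G)) :
    Nat.card (S.map f) = Nat.card S := by
  have h := Nat.card_image_of_injOn hf
  exact h

theorem ea_of_map_injOn (f : G →* G') {S A : Subgroup G} (hf : Set.InjOn f (S : Set G))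
    (hAS : A ≤ S) (h : IsElementaryAbelian p (A.map f)) : IsElementaryAbelian p A := by
  obtain ⟨hc, hp⟩ := h
  refine ⟨⟨⟨?_⟩⟩, ?_⟩
  · rintro ⟨a, ha⟩ ⟨b, hb⟩
    apply Subtype.ext
    show a * b = b * a
    apply hf (S.mul_mem (hAS ha) (hAS hb)) (S.mul_mem (hAS hb) (hAS ha))
    rw [map_mul, map_mul]
    exact setLike_mul_comm (s := A.map f) ⟨a, ha, rfl⟩ ⟨b, hb, rfl⟩
  · intro a ha
    apply hf (S.pow_mem (hAS ha) p) S.one_mem
    rw [map_pow, map_one]
    exact hp _ ⟨a, ha, rfl⟩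

theorem comap_inf_map (f : G →* G') {S : Subgroup G} {B : Subgroup G'} (hB : B ≤ S.map f) :
    (B.comap f ⊓ S).map f = B := by
  apply le_antisymm
  · rintro _ ⟨x, hx, rfl⟩
    exact hx.1
  · intro b hb
    obtain ⟨s, hs, rfl⟩ := hB hb
    exact ⟨s, ⟨hb, hs⟩, rfl⟩

theorem maxEA_map (f : G →* G') {S : Subgroup G} (hf : Set.InjOn f (S : Set G)) {A : Subgroup G}
    (hA : A ∈ MaxEA p S) : A.map f ∈ MaxEA p (S.map f) := by
  obtain ⟨hAS, hEA, hmax⟩ := hA
  refine ⟨Subgroup.map_mono hAS, ea_map f hEA, ?_⟩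
  intro B hB hBEA
  have h1 : (B.comap f ⊓ S).map f = B := comap_inf_map f hB
  have h2 : IsElementaryAbelian p (B.comap f ⊓ S) :=
    ea_of_map_injOn f hf inf_le_right (by rw [h1]; exact hBEA)
  have h3 := hmax _ inf_le_right h2
  rw [card_map_of_injOn f A (hf.mono hAS)]
  calc Nat.card B = Nat.card ((B.comap f ⊓ S).map f) := by rw [h1]
    _ = Nat.card ↥(B.comap f ⊓ S) := card_map_of_injOn f _ (hf.mono inf_le_right)
    _ ≤ Nat.card A := h3

theorem exists_of_maxEA_map (f : G →* G') {S : Subgroup G} (hf : Set.InjOn f (S : Set G))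
    {B : Subgroup G'} (hB : B ∈ MaxEA p (S.map f)) : ∃ A ∈ MaxEA p S, A.map f = B := by
  obtain ⟨hBS, hEA, hmax⟩ := hB
  have h1 : (B.comap f ⊓ S).map f = B := comap_inf_map f hBS
  refine ⟨B.comap f ⊓ S, ⟨inf_le_right, ?_, ?_⟩, h1⟩
  · exact ea_of_map_injOn f hf inf_le_right (by rw [h1]; exact hEA)
  · intro C hCS hCEA
    have h2 := hmax (C.map f) (Subgroup.map_mono hCS) (ea_map f hCEA)
    rw [card_map_of_injOn f C (hf.mono hCS)] at h2
    calc Nat.card C ≤ Nat.card B := h2
      _ = Nat.card ((B.comap f ⊓ S).map f) := by rw [h1]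
      _ = Nat.card ↥(B.comap f ⊓ S) := card_map_of_injOn f _ (hf.mono inf_le_right)

theorem TJ_map (f : G →* G') {S : Subgroup G} (hf : Set.InjOn f (S : Set G)) :
    TJ p (S.map f) = (TJ p S).map f := by
  apply le_antisymm
  · apply sSup_le
    intro B hB
    obtain ⟨A, hA, rfl⟩ := exists_of_maxEA_map f hf hB
    exact Subgroup.map_mono (le_sSup hA)
  · unfold TJ
    rw [Subgroup.map_le_iff_le_comap]
    apply sSup_le
    intro A hA
    rw [← Subgroup.map_le_iff_le_comap]
    exact le_sSup (maxEA_map f hf hA)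

theorem TJ_map_of_injective (f : G →* G') (hf : Function.Injective f) (S : Subgroup G) :
    TJ p (S.map f) = (TJ p S).map f :=
  TJ_map f hf.injOn

theorem normalizer_le_normalizer_TJ (S : Subgroup G) :
    Subgroup.normalizer (S : Set G) ≤ Subgroup.normalizer (TJ p S : Set G) := by
  intro g hg
  have h1 : conjS g S = S := by
    have := Subgroup.map_equiv_normalizer_eq S (MulAut.conj g)
    ext z
    rw [mem_conjS]
    constructor
    · rintro ⟨h, hh, rfl⟩
      exact ((Subgroup.mem_normalizer_iff.mp hg) h).mp hh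
    · intro hz
      refine ⟨g⁻¹ * z * g, ?_, by group⟩
      have := (Subgroup.mem_normalizer_iff.mp hg) (g⁻¹ * z * g)
      rw [this]
      convert hz using 1
      group
  have h2 : conjS g (TJ p S) = TJ p S := by rw [← TJ_conj, h1]
  rw [Subgroup.mem_normalizer_iff]
  intro x
  constructor
  · intro hx
    rw [← h2]
    exact mem_conjS.mpr ⟨x, hx, rfl⟩
  · intro hx
    rw [← h2] at hx
    obtain ⟨y, hy, hyx⟩ := mem_conjS.mp hx
    have : y = x := mul_left_cancel (mul_right_cancel hyx)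
    rw [← this]
    exact hy

theorem normalizer_le_normalizer_Z (S : Subgroup G) :
    Subgroup.normalizer (S : Set G) ≤
      Subgroup.normalizer ((S ⊓ Subgroup.centralizer (S : Set G) : Subgroup G) : Set G) := by
  intro g hg
  have hg' := Subgroup.mem_normalizer_iff.mp hg
  have hginv : g⁻¹ ∈ Subgroup.normalizer (S : Set G) := inv_mem hg
  have hginv' := Subgroup.mem_normalizer_iff.mp hginv
  have key : ∀ g : G, (∀ h, h ∈ S ↔ g * h * g⁻¹ ∈ S) → ∀ x, x ∈ S ⊓ Subgroup.centralizer (S : Set G) →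
      g * x * g⁻¹ ∈ S ⊓ Subgroup.centralizer (S : Set G) := by
    intro g hg x hx
    refine ⟨(hg x).mp hx.1, ?_⟩
    show g * x * g⁻¹ ∈ Subgroup.centralizer (S : Set G)
    rw [Subgroup.mem_centralizer_iff]
    intro s hs
    have hs' : g⁻¹ * s * g ∈ S := by
      rw [hg]
      have e : g * (g⁻¹ * s * g) * g⁻¹ = s := by group
      rw [e]
      exact hs
    have h1 := (Subgroup.mem_centralizer_iff.mp hx.2) _ hs'
    calc s * (g * x * g⁻¹) = g * ((g⁻¹ * s * g) * x) * g⁻¹ := by group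
      _ = g * (x * (g⁻¹ * s * g)) * g⁻¹ := by rw [h1]
      _ = g * x * g⁻¹ * s := by group
  rw [Subgroup.mem_normalizer_iff]
  intro x
  constructor
  · exact key g hg' x
  · intro hx
    have := key g⁻¹ hginv' _ hx
    convert this using 1
    group

end TJ

end Cfsg.Agent.Lib.Helper1.TNPC
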