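import Mathlib
import Cfsg.Agent.Lib.Helper1.TNPC.TJMap
import Cfsg.Agent.Lib.Helper1.TNPC.Repl

set_option autoImplicit false

namespace Cfsg.Agent.Lib.Helper1.TNPC

open Cfsg Cfsg.Agent.S5306

section Quad

variable {G : Type*} [Group G]

theorem card_lt_of_lt' [Finite G] {H K : Subgroup G} (h : H < K) : Nat.card H < Nat.card K := by
  by_contra hcon
  push Not at hcon
  exact h.ne (Subgroup.eq_of_le_of_card_ge h.le hcon)

theorem ea_bot (p : ℕ) : IsElementaryAbelian p (⊥ : Subgroup G) := by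
  refine ⟨⟨⟨?_⟩⟩, ?_⟩
  · rintro ⟨a, ha⟩ ⟨b, hb⟩
    apply Subtype.ext
    rw [Subgroup.mem_bot] at ha hb
    show a * b = b * a
    rw [ha, hb]
  · intro a ha
    rw [Subgroup.mem_bot] at ha
    rw [ha, one_pow]

theorem maxEA_nonempty [Finite G] (p : ℕ) (S : Subgroup G) : (MaxEA p S).Nonempty := by
  let T := {A : Subgroup G // A ≤ S ∧ IsElementaryAbelian p A}
  haveI : Nonempty T := ⟨⟨⊥, bot_le, ea_bot p⟩⟩
  obtain ⟨A, hA⟩ := Finite.exists_max (fun A : T => Nat.card (A.1 : Subgroup G))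
  exact ⟨A.1, A.2.1, A.2.2, fun B hBS hB => hA ⟨B, hBS, hB⟩⟩

theorem exists_quadratic [Finite G] {p : ℕ} [Fact p.Prime] {P V H : Subgroup G}
    (hP : IsPGroup p P) (hV : IsElementaryAbelian p V) (hVP : V ≤ P)
    (hPV : P ≤ Subgroup.normalizer (V : Set G)) (hHV : H ≤ Subgroup.centralizer (V : Set G))
    (hex : ∃ A ∈ MaxEA p P, ¬ A ≤ H) :
    ∃ A ∈ MaxEA p P, ¬ A ≤ H ∧ V ≤ Subgroup.normalizer (A : Set G) := by
  let T := {A : Subgroup G // A ∈ MaxEA p P ∧ ¬ A ≤ H}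
  obtain ⟨A₀, hA₀, hA₀H⟩ := hex
  haveI : Nonempty T := ⟨⟨A₀, hA₀, hA₀H⟩⟩
  obtain ⟨A, hAmax⟩ := Finite.exists_max (fun A : T => Nat.card ↥((A.1 : Subgroup G) ⊓ V))
  refine ⟨A.1, A.2.1, A.2.2, ?_⟩
  by_contra hVA
  obtain ⟨A', hA', hlt, hA'N⟩ := ea_replacement hP A.2.1 hV hVP (A.2.1.1.trans hPV) hVA
  by_cases hA'H : A' ≤ H
  · have hVc : V ≤ Subgroup.centralizer (A' : Set G) :=
      Subgroup.le_centralizer_iff.mp (hA'H.trans hHV)
    have hea : IsElementaryAbelian p (A' ⊔ V) := ea_sup hA'.2.1 hV hVc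
    have hcard := hA'.2.2 (A' ⊔ V) (sup_le hA'.1 hVP) hea
    have heq : A' = A' ⊔ V := Subgroup.eq_of_le_of_card_ge le_sup_left hcard
    have hVA' : V ≤ A' := by rw [heq]; exact le_sup_right
    exact hVA (hVA'.trans hA'N)
  · have h1 := hAmax ⟨A', hA', hA'H⟩
    have h2 := card_lt_of_lt' hlt
    exact absurd h1 (not_le.mpr h2)

theorem quad_of_normalizes {p : ℕ} {A V : Subgroup G} (hA : IsElementaryAbelian p A)
    (hVA : V ≤ Subgroup.normalizer (A : Set G)) (a : G) (ha : a ∈ A) (v : G) (hv : v ∈ V) :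
    Commute a (a * v * a⁻¹ * v⁻¹) := by
  have h1 : v * a⁻¹ * v⁻¹ ∈ A := (Subgroup.mem_normalizer_iff.mp (hVA hv) a⁻¹).mp (inv_mem ha)
  have h2 : a * v * a⁻¹ * v⁻¹ ∈ A := by
    have : a * v * a⁻¹ * v⁻¹ = a * (v * a⁻¹ * v⁻¹) := by group
    rw [this]
    exact mul_mem ha h1
  haveI := hA.1
  exact setLike_mul_comm ha h2

theorem omega_centralizes {p n : ℕ} (hcop : n.Coprime p) {Z : Subgroup G}
    (hZc : ∀ a ∈ Z, ∀ b ∈ Z, a * b = b * a)
    (y : G) (hyZ : ∀ z ∈ Z, y * z * y⁻¹ ∈ Z) (hyn : y ^ n = 1)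
    (hy1 : ∀ z ∈ Z, z ^ p = 1 → y * z * y⁻¹ = z) :
    ∀ k : ℕ, ∀ z ∈ Z, z ^ (p ^ k) = 1 → y * z * y⁻¹ = z := by
  intro k
  induction k with
  | zero =>
    intro z _ hz
    rw [pow_zero, pow_one] at hz
    rw [hz]
    group
  | succ k ih =>
    intro z hz hzk
    have hzp : y * z ^ p * y⁻¹ = z ^ p := by
      apply ih _ (Z.pow_mem hz p)
      rw [← pow_mul, ← pow_succ']
      exact hzk
    obtain ⟨w, hw⟩ : ∃ w, w = y * z * y⁻¹ * z⁻¹ := ⟨_, rfl⟩
    have hwZ : w ∈ Z := by rw [hw]; exact mul_mem (hyZ z hz) (inv_mem hz)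
    have hcomm : Commute (y * z * y⁻¹) z⁻¹ := hZc _ (hyZ z hz) _ (inv_mem hz)
    have hwp : w ^ p = 1 := by
      rw [hw, hcomm.mul_pow, conj_pow, hzp, inv_pow, mul_inv_cancel]
    have hyw : y * w * y⁻¹ = w := hy1 w hwZ hwp
    have hyz : y * z * y⁻¹ = w * z := by rw [hw]; group
    have key : ∀ i : ℕ, y ^ i * z * (y ^ i)⁻¹ = w ^ i * z := by
      intro i
      induction i with
      | zero => simp
      | succ i ihi =>
        have e1 : y ^ (i + 1) * z * (y ^ (i + 1))⁻¹ = y * (y ^ i * z * (y ^ i)⁻¹) * y⁻¹ := by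
          rw [pow_succ']
          group
        rw [e1, ihi]
        have e2 : y * (w ^ i * z) * y⁻¹ = (y * w * y⁻¹) ^ i * (y * z * y⁻¹) := by
          rw [conj_pow]
          group
        rw [e2, hyw, hyz, pow_succ, mul_assoc]
    have hn := key n
    rw [hyn] at hn
    have hwn : w ^ n = 1 := by
      have : z = w ^ n * z := by simpa using hn
      exact (mul_eq_right.mp this.symm)
    have hw1 : w = 1 := (pow_eq_one_iff_of_coprime hcop).mp ⟨hwn, hwp⟩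
    rw [hyz, hw1, one_mul]

theorem TJ_ne_bot [Finite G] {p : ℕ} [hp : Fact p.Prime] {S : Subgroup G} (hS : IsPGroup p S)
    (hne : S ≠ ⊥) : TJ p S ≠ ⊥ := by
  obtain ⟨k, hk⟩ := IsPGroup.iff_card.mp hS
  have hk0 : k ≠ 0 := by
    rintro rfl
    rw [pow_zero] at hk
    exact hne (Subgroup.card_eq_one.mp hk)
  have hdvd : p ∣ Nat.card S := by rw [hk]; exact dvd_pow_self p hk0
  obtain ⟨y, hy⟩ := exists_prime_orderOf_dvd_card' p hdvd
  have hyG : orderOf (y : G) = p := by rw [Subgroup.orderOf_coe]; exact hy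
  have hea : IsElementaryAbelian p (Subgroup.zpowers (y : G)) := by
    refine ⟨inferInstance, ?_⟩
    intro a ha
    obtain ⟨i, rfl⟩ := Subgroup.mem_zpowers_iff.mp ha
    rw [← zpow_natCast, ← zpow_mul, mul_comm, zpow_mul, zpow_natCast, ← hyG, pow_orderOf_eq_one,
      one_zpow]
  have hle : Subgroup.zpowers (y : G) ≤ S := by
    rw [Subgroup.zpowers_le]
    exact y.2
  obtain ⟨A, hA⟩ := maxEA_nonempty p S
  have h1 := hA.2.2 _ hle hea
  rw [Nat.card_zpowers, hyG] at h1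
  intro hbot
  have hAle : A ≤ TJ p S := le_sSup hA
  rw [hbot, le_bot_iff] at hAle
  rw [hAle, Subgroup.card_bot] at h1
  exact absurd h1 (not_le.mpr hp.out.one_lt)

theorem Z_ne_bot [Finite G] {p : ℕ} [hp : Fact p.Prime] {S : Subgroup G} (hS : IsPGroup p S)
    (hne : S ≠ ⊥) : S ⊓ Subgroup.centralizer (S : Set G) ≠ ⊥ := by
  have : Nontrivial S := (Subgroup.nontrivial_iff_ne_bot S).mpr hne
  have := hS.center_nontrivial
  obtain ⟨z, hz⟩ := exists_ne (1 : Subgroup.center S)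
  intro hbot
  have hzmem : ((z : S) : G) ∈ S ⊓ Subgroup.centralizer (S : Set G) := by
    refine ⟨(z : S).2, ?_⟩
    show ((z : S) : G) ∈ Subgroup.centralizer (S : Set G)
    rw [Subgroup.mem_centralizer_iff]
    intro s hs
    have := (Subgroup.mem_center_iff.mp z.2) ⟨s, hs⟩
    exact congrArg Subtype.val this
  rw [hbot, Subgroup.mem_bot] at hzmem
  apply hz
  apply Subtype.ext
  apply Subtype.ext
  exact hzmem

end Quad

end Cfsg.Agent.Lib.Helper1.TNPC
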