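import Mathlib
import Cfsg.Agent.Lib.Helper1.TNPC.Quad
import Cfsg.Agent.Lib.Helper10.LBal11

set_option autoImplicit false

namespace Cfsg.Agent.Lib.Helper1.TNPC

open Cfsg Cfsg.Agent.S5306

def Hyp (p : ℕ) (G : Type*) [Group G] (P : Subgroup G) : Prop :=
  HasNormalPComplement p ↥(Subgroup.normalizer (TJ p P : Set G)) ∧
  HasNormalPComplement p
    ↥(Subgroup.centralizer ((P ⊓ Subgroup.centralizer (P : Set G) : Subgroup G) : Set G))

section Steps

variable {G : Type*} [Group G] [Finite G] {p : ℕ} [hp : Fact p.Prime]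

theorem hyp_transfer {G' : Type*} [Group G'] [Finite G'] (f : G' →* G)
    (hf : Function.Injective f) (R : Subgroup G') (h : Hyp p G (R.map f)) : Hyp p G' R := by
  obtain ⟨h1, h2⟩ := h
  constructor
  · apply npc_of_map_injective f hf
    refine npc_of_le ?_ h1
    rw [TJ_map_of_injective f hf]
    exact Subgroup.le_normalizer_map f
  · apply npc_of_map_injective f hf
    refine npc_of_le ?_ h2
    rintro _ ⟨x, hx, rfl⟩
    have hx := Subgroup.mem_centralizer_iff.mp hx
    rw [Subgroup.mem_centralizer_iff]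
    intro z hz
    obtain ⟨⟨z', hz', rfl⟩, hzc⟩ := hz
    have hzc' := Subgroup.mem_centralizer_iff.mp hzc
    have hz'Z : z' ∈ R ⊓ Subgroup.centralizer (R : Set G') := by
      refine ⟨hz', ?_⟩
      show z' ∈ Subgroup.centralizer (R : Set G')
      rw [Subgroup.mem_centralizer_iff]
      intro r hr
      apply hf
      rw [map_mul, map_mul]
      exact hzc' (f r) ⟨r, hr, rfl⟩
    have := hx z' hz'Z
    rw [← map_mul, ← map_mul, this]

theorem injOn_mk_of_coprime (T : Subgroup G) [T.Normal] (hT : (Nat.card T).Coprime p)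
    (P : Subgroup G) (hP : IsPGroup p P) : Set.InjOn (QuotientGroup.mk' T) (P : Set G) := by
  intro x hx y hy hxy
  have h1 : x⁻¹ * y ∈ T := by
    rw [← QuotientGroup.eq]
    exact hxy
  have h2 : x⁻¹ * y ∈ P := mul_mem (inv_mem hx) hy
  have hcop : (Nat.card T).Coprime (Nat.card P) := by
    obtain ⟨k, hk⟩ := IsPGroup.iff_card.mp hP
    rw [hk]
    exact Nat.Coprime.pow_right k hT
  have h3 : T ⊓ P = ⊥ := (Subgroup.disjoint_of_coprime_natCard hcop).eq_bot
  have h4 : x⁻¹ * y ∈ T ⊓ P := ⟨h1, h2⟩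
  rw [h3, Subgroup.mem_bot] at h4
  exact inv_mul_eq_one.mp h4

theorem hyp_quotient (T : Subgroup G) [T.Normal] (hT : (Nat.card T).Coprime p)
    (P : Subgroup G) (hP : IsPGroup p P) (h : Hyp p G P) :
    Hyp p (G ⧸ T) (P.map (QuotientGroup.mk' T)) := by
  obtain ⟨h1, h2⟩ := h
  have hinj := injOn_mk_of_coprime T hT P hP
  constructor
  · have e : Subgroup.normalizer ((TJ p (P.map (QuotientGroup.mk' T)) : Subgroup (G ⧸ T)) : Set (G ⧸ T)) =
        (Subgroup.normalizer (TJ p P : Set G)).map (QuotientGroup.mk' T) := by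
      rw [TJ_map _ hinj]
      exact (Cfsg.Agent.Lib.Helper10.map_normalizer_eq_of_coprime p T hT (TJ p P)
        (hP.to_le (TJ_le p P))).symm
    rw [e]
    exact npc_map _ _ h1
  · refine npc_of_le ?_ (npc_map (QuotientGroup.mk' T) _ h2)
    set Z := P ⊓ Subgroup.centralizer (P : Set G) with hZ
    have hZp : IsPGroup p Z := hP.to_le inf_le_left
    intro gb hgb
    rw [Subgroup.mem_centralizer_iff] at hgb
    have hZmap : ∀ z ∈ Z, QuotientGroup.mk' T z ∈
        P.map (QuotientGroup.mk' T) ⊓ Subgroup.centralizer ((P.map (QuotientGroup.mk' T) : Subgroup (G ⧸ T)) : Set (G ⧸ T)) := by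
      intro z hz
      refine ⟨⟨z, hz.1, rfl⟩, ?_⟩
      show _ ∈ Subgroup.centralizer _
      rw [Subgroup.mem_centralizer_iff]
      rintro _ ⟨u, hu, rfl⟩
      rw [← map_mul, ← map_mul, (Subgroup.mem_centralizer_iff.mp hz.2) u hu]
    have hgn : gb ∈ Subgroup.normalizer ((Z.map (QuotientGroup.mk' T) : Subgroup (G ⧸ T)) : Set (G ⧸ T)) := by
      apply Subgroup.centralizer_le_normalizer
      rw [Subgroup.mem_centralizer_iff]
      rintro _ ⟨z, hz, rfl⟩
      exact hgb _ (hZmap z hz)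
    rw [← Cfsg.Agent.Lib.Helper10.map_normalizer_eq_of_coprime p T hT Z hZp] at hgn
    obtain ⟨n, hn, rfl⟩ := hgn
    refine ⟨n, ?_, rfl⟩
    show n ∈ Subgroup.centralizer (Z : Set G)
    rw [Subgroup.mem_centralizer_iff]
    intro z hz
    have hc1 : n * z * n⁻¹ ∈ Z := (Subgroup.mem_normalizer_iff.mp hn z).mp hz
    have hc : n * z * n⁻¹ * z⁻¹ ∈ Z := mul_mem hc1 (inv_mem hz)
    have hcT : n * z * n⁻¹ * z⁻¹ ∈ T := by
      rw [← QuotientGroup.eq_one_iff]
      have := hgb _ (hZmap z hz)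
      have e : ((n * z * n⁻¹ * z⁻¹ : G) : G ⧸ T) = (QuotientGroup.mk' T n) * (QuotientGroup.mk' T z) * (QuotientGroup.mk' T n)⁻¹ * (QuotientGroup.mk' T z)⁻¹ := by
        simp
      rw [e, ← this]
      group
    have hcop : (Nat.card T).Coprime (Nat.card Z) := by
      obtain ⟨k, hk⟩ := IsPGroup.iff_card.mp hZp
      rw [hk]
      exact Nat.Coprime.pow_right k hT
    have h3 : T ⊓ Z = ⊥ := (Subgroup.disjoint_of_coprime_natCard hcop).eq_bot
    have h4 : n * z * n⁻¹ * z⁻¹ ∈ T ⊓ Z := ⟨hcT, hc⟩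
    rw [h3, Subgroup.mem_bot] at h4
    have : n * z * n⁻¹ = z := by
      have := mul_inv_eq_one.mp h4
      exact this
    calc z * n = (n * z * n⁻¹) * n := by rw [this]
      _ = n * z := by group

end Steps

end Cfsg.Agent.Lib.Helper1.TNPC
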