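import Mathlib
import Cfsg.Agent.Lib.Helper1.TNPC.Steps
import Cfsg.Agent.Lib.Helper18.PPrimeCore

set_option autoImplicit false

namespace Cfsg.Agent.Lib.Helper1.TNPC

open Cfsg Cfsg.Agent.S5306

universe u

def IHyp (p : ℕ) (G : Type u) [Group G] : Prop :=
  ∀ (G' : Type u) [Group G'] [Finite G'], Nat.card G' < Nat.card G →
    ∀ P' : Sylow p G', Hyp p G' (P' : Subgroup G') → HasNormalPComplement p G'

section Core

variable {G : Type u} [Group G] [Finite G] {p : ℕ} [hp : Fact p.Prime]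

theorem card_lt_of_ne_top {M : Subgroup G} (hM : M ≠ ⊤) : Nat.card M < Nat.card G := by
  by_contra hcon
  push Not at hcon
  exact hM (Subgroup.eq_top_of_card_eq M (le_antisymm (Subgroup.card_le_card_group M) hcon))

theorem npc_of_eq_top {A : Subgroup G} (hA : A = ⊤) (h : HasNormalPComplement p ↥A) :
    HasNormalPComplement p G := by
  subst hA
  exact npc_top_iff.mp h

theorem sub_step (IH : IHyp p G) (M : Subgroup G) (hM : M ≠ ⊤) (R' : Sylow p M)
    (h : Hyp p G ((R' : Subgroup M).map M.subtype)) : HasNormalPComplement p ↥M :=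
  IH ↥M (card_lt_of_ne_top hM) R' (hyp_transfer M.subtype M.subtype_injective _ h)

theorem quot_step (IH : IHyp p G) (hcex : ¬ HasNormalPComplement p G) (P : Sylow p G)
    (hH : Hyp p G (P : Subgroup G)) (T : Subgroup G) [T.Normal] (hT : (Nat.card T).Coprime p) :
    T = ⊥ := by
  by_contra hne
  have h1 : Nat.card (G ⧸ T) < Nat.card G := by
    have e := Subgroup.card_eq_card_quotient_mul_card_subgroup T
    have h2 : 1 < Nat.card T := (Subgroup.one_lt_card_iff_ne_bot T).mpr hne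
    have h3 : 0 < Nat.card (G ⧸ T) := Nat.card_pos
    rw [e]
    nlinarith
  have h2 : Hyp p (G ⧸ T) ((Sylow.mapSurjective (QuotientGroup.mk'_surjective T) P : Sylow p (G ⧸ T)) : Subgroup (G ⧸ T)) := by
    rw [Sylow.coe_mapSurjective]
    exact hyp_quotient T hT _ P.isPGroup' hH
  exact hcex (npc_of_quotient T hT (IH _ h1 _ h2))

theorem mu_lt {c a b a' b' : ℕ} (hb : b ≤ c) (h : a < a' ∨ (a ≤ a' ∧ b < b')) :
    a * (c + 1) + b < a' * (c + 1) + b' := by
  rcases h with h | ⟨h1, h2⟩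
  · have h3 : (a + 1) * (c + 1) ≤ a' * (c + 1) := Nat.mul_le_mul_right _ h
    nlinarith
  · have h3 : a * (c + 1) ≤ a' * (c + 1) := Nat.mul_le_mul_right _ h1
    omega

theorem fact_le_of_pgroup_le {Q M : Subgroup G} (hQ : IsPGroup p Q) (hQM : Q ≤ M) :
    Nat.card Q ≤ p ^ (Nat.card M).factorization p := by
  obtain ⟨k, hk⟩ := IsPGroup.iff_card.mp hQ
  have hdvd : Nat.card Q ∣ Nat.card M := Subgroup.card_dvd_of_le hQM
  rw [hk] at hdvd ⊢
  have hM : Nat.card M ≠ 0 := Nat.card_pos.ne'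
  have := (hp.out.pow_dvd_iff_le_factorization hM).mp hdvd
  exact Nat.pow_le_pow_right hp.out.pos this

theorem hyp_conj (P₀ P : Sylow p G) (h : Hyp p G (P₀ : Subgroup G)) : Hyp p G (P : Subgroup G) := by
  obtain ⟨g, hg⟩ := MulAction.exists_smul_eq G P P₀
  apply hyp_transfer (MulAut.conj g).toMonoidHom (MulAut.conj g).injective
  have e : ((P : Subgroup G)).map (MulAut.conj g).toMonoidHom = (P₀ : Subgroup G) := by
    rw [← hg, Sylow.coe_subgroup_smul]
    rfl
  rw [e]
  exact h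

end Core

end Cfsg.Agent.Lib.Helper1.TNPC
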