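import Mathlib
import Cfsg.Agent.Lib.Helper1.TNPC.Core

set_option autoImplicit false

namespace Cfsg.Agent.Lib.Helper1.TNPC

open Cfsg Cfsg.Agent.S5306

universe u

section Core2

variable {G : Type u} [Group G] [Finite G] {p : ℕ} [hp : Fact p.Prime]

noncomputable def nu (p : ℕ) (M : Subgroup G) : ℕ := (Nat.card M).factorization p

theorem card_le_pow_nu {Q M : Subgroup G} (hQ : IsPGroup p Q) (hQM : Q ≤ M) :
    Nat.card Q ≤ p ^ nu p M := fact_le_of_pgroup_le hQ hQM

theorem exists_core (IH : IHyp p G) (hcex : ¬ HasNormalPComplement p G) (P₀ : Sylow p G)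
    (hH₀ : Hyp p G (P₀ : Subgroup G)) :
    ∃ (P : Sylow p G) (H : Subgroup G), Hyp p G (P : Subgroup G) ∧ H.Normal ∧
      H ≤ (P : Subgroup G) ∧ H ≠ ⊥ ∧
      ∀ X : Subgroup G, IsPGroup p X → (P : Subgroup G) ≤ Subgroup.normalizer (X : Set G) →
        Nat.card H < Nat.card X → HasNormalPComplement p ↥(Subgroup.normalizer (X : Set G)) := by
  classical
  let T := {H : Subgroup G // IsPGroup p H ∧ H ≠ ⊥ ∧
    ¬ HasNormalPComplement p ↥(Subgroup.normalizer (H : Set G))}
  have hne : Nonempty T := by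
    by_contra hemp
    rw [not_nonempty_iff] at hemp
    apply hcex
    rw [Cfsg.Agent.S0072.result p]
    intro Q hQ hQne
    by_contra hn
    exact hemp.false ⟨Q, hQ, hQne, hn⟩
  let μ : T → ℕ := fun H => nu p (Subgroup.normalizer (H.1 : Set G)) * (Nat.card G + 1) + Nat.card H.1
  obtain ⟨⟨H, hHp, hHne, hHn⟩, hmax⟩ := Finite.exists_max μ
  set N := Subgroup.normalizer (H : Set G) with hN
  obtain ⟨R, hR⟩ := (hHp.comap_subtype (K := N)).exists_le_sylow
  set RG := (R : Subgroup N).map N.subtype with hRG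
  have hRGp : IsPGroup p RG := R.isPGroup'.map _
  obtain ⟨P, hP⟩ := hRGp.exists_le_sylow
  have hyp : Hyp p G (P : Subgroup G) := hyp_conj P₀ P hH₀
  have hHRG : H ≤ RG := by
    intro h hh
    exact ⟨⟨h, Subgroup.le_normalizer hh⟩, hR hh, rfl⟩
  have hRGne : RG ≠ ⊥ := ne_bot_of_le_ne_bot hHne hHRG
  have hcardRG : Nat.card RG = p ^ nu p N := by
    rw [hRG, Subgroup.card_map_of_injective N.subtype_injective]
    exact Sylow.card_eq_multiplicity R
  have hmaxX : ∀ X : Subgroup G, IsPGroup p X → X ≠ ⊥ →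
      (nu p N < nu p (Subgroup.normalizer (X : Set G)) ∨
        (nu p N ≤ nu p (Subgroup.normalizer (X : Set G)) ∧ Nat.card H < Nat.card X)) →
      HasNormalPComplement p ↥(Subgroup.normalizer (X : Set G)) := by
    intro X hXp hXne hlt
    by_contra hn
    have h1 := hmax ⟨X, hXp, hXne, hn⟩
    have h2 := mu_lt (c := Nat.card G) (Subgroup.card_le_card_group H) hlt
    exact absurd h1 (not_le.mpr h2)
  have hNtop : N = ⊤ := by
    by_contra hNtop
    apply hHn
    apply sub_step IH N hNtop R
    show Hyp p G RG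
    by_cases hRP : RG = P
    · rw [hRP]; exact hyp
    · have hlt : RG < P := lt_of_le_of_ne hP hRP
      obtain ⟨z, hzP, hzN, hzR⟩ :=
        Cfsg.Agent.Lib.Helper18.exists_mem_normalizer_not_mem_of_lt_pGroup P.isPGroup' hlt
      set Q := Subgroup.normalizer (RG : Set G) ⊓ P with hQ
      have hQp : IsPGroup p Q := P.isPGroup'.to_le inf_le_right
      have hRQ : RG < Q := by
        refine lt_of_le_of_ne (le_inf Subgroup.le_normalizer hP) ?_
        intro heq
        apply hzR
        rw [heq]
        exact ⟨hzN, hzP⟩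
      have hν : ∀ X : Subgroup G,
          Subgroup.normalizer (RG : Set G) ≤ Subgroup.normalizer (X : Set G) →
          nu p N < nu p (Subgroup.normalizer (X : Set G)) := by
        intro X hX
        have h1 : Nat.card Q ≤ p ^ nu p (Subgroup.normalizer (X : Set G)) :=
          card_le_pow_nu hQp (inf_le_left.trans hX)
        have h2 := card_lt_of_lt' hRQ
        rw [hcardRG] at h2
        exact (Nat.pow_lt_pow_iff_right hp.out.one_lt).mp (lt_of_lt_of_le h2 h1)
      constructor
      · exact hmaxX _ (hRGp.to_le (TJ_le p RG)) (TJ_ne_bot hRGp hRGne)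
          (Or.inl (hν _ (normalizer_le_normalizer_TJ RG)))
      · exact npc_of_le (Subgroup.centralizer_le_normalizer _)
          (hmaxX _ (hRGp.to_le inf_le_left) (Z_ne_bot hRGp hRGne)
            (Or.inl (hν _ (normalizer_le_normalizer_Z RG))))
  have hHnorm : H.Normal := Subgroup.normalizer_eq_top_iff.mp hNtop
  refine ⟨P, H, hyp, hHnorm, hHRG.trans hP, hHne, ?_⟩
  intro X hXp hPX hcard
  have hXne : X ≠ ⊥ := by
    rintro rfl
    rw [Subgroup.card_bot] at hcard
    have : 0 < Nat.card H := Nat.card_pos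
    omega
  apply hmaxX X hXp hXne
  right
  refine ⟨?_, hcard⟩
  have h1 : Nat.card (P : Subgroup G) ≤ p ^ nu p (Subgroup.normalizer (X : Set G)) :=
    card_le_pow_nu P.isPGroup' hPX
  rw [Sylow.card_eq_multiplicity] at h1
  have h2 := (Nat.pow_le_pow_iff_right hp.out.one_lt).mp h1
  have h3 : nu p N = (Nat.card G).factorization p := by
    show (Nat.card N).factorization p = _
    rw [hNtop, Subgroup.card_top]
  rw [h3]
  exact h2

end Core2

end Cfsg.Agent.Lib.Helper1.TNPC
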