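import Mathlib
import Cfsg.Agent.Lib.Helper1.TNPC.Core2
import Cfsg.Agent.Lib.Helper5.PConstr

set_option autoImplicit false

namespace Cfsg.Agent.Lib.Helper1.TNPC

open Cfsg Cfsg.Agent.S5306

universe u

structure MinCex (p : ℕ) (G : Type u) [Group G] [Finite G] (P : Sylow p G) (H : Subgroup G) :
    Prop where
  ih : IHyp p G
  cex : ¬ HasNormalPComplement p G
  hyp : Hyp p G (P : Subgroup G)
  hHP : H ≤ (P : Subgroup G)
  hHne : H ≠ ⊥
  claimC : ∀ X : Subgroup G, IsPGroup p X →
    (P : Subgroup G) ≤ Subgroup.normalizer (X : Set G) → Nat.card H < Nat.card X →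
    HasNormalPComplement p ↥(Subgroup.normalizer (X : Set G))

section Final1

variable {G : Type u} [Group G] [Finite G] {p : ℕ} [hp : Fact p.Prime] {P : Sylow p G}
  {H : Subgroup G} [hHn : H.Normal]

theorem MinCex.opp (c : MinCex p G P H) (T : Subgroup G) [T.Normal]
    (hT : (Nat.card T).Coprime p) : T = ⊥ :=
  quot_step c.ih c.cex P c.hyp T hT

theorem MinCex.hHp (c : MinCex p G P H) : IsPGroup p H := P.isPGroup'.to_le c.hHP

theorem MinCex.normal_pgroup_le (c : MinCex p G P H) (X : Subgroup G) [X.Normal]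
    (hX : IsPGroup p X) : X ≤ H := by
  by_contra hXH
  have hYp : IsPGroup p (X ⊔ H : Subgroup G) := hX.to_sup_of_normal_right c.hHp
  have hlt : H < X ⊔ H := by
    refine lt_of_le_of_ne le_sup_right ?_
    intro heq
    apply hXH
    rw [heq]
    exact le_sup_left
  have hN : Subgroup.normalizer ((X ⊔ H : Subgroup G) : Set G) = ⊤ :=
    Subgroup.normalizer_eq_top_iff.mpr inferInstance
  have h1 := c.claimC (X ⊔ H) hYp (by rw [hN]; exact le_top) (card_lt_of_lt' hlt)
  exact c.cex (npc_of_eq_top hN h1)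

theorem MinCex.H_ne_P (c : MinCex p G P H) : H ≠ (P : Subgroup G) := by
  intro h
  have h1 : Subgroup.normalizer ((P : Subgroup G) : Set G) = ⊤ := by
    rw [← h]
    exact Subgroup.normalizer_eq_top_iff.mpr inferInstance
  have h2 : Subgroup.normalizer (TJ p (P : Subgroup G) : Set G) = ⊤ := by
    rw [eq_top_iff, ← h1]
    exact normalizer_le_normalizer_TJ _
  exact c.cex (npc_of_eq_top h2 c.hyp.1)

theorem MinCex.map_ne_bot (c : MinCex p G P H) :
    (P : Subgroup G).map (QuotientGroup.mk' H) ≠ ⊥ := by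
  intro h
  apply c.H_ne_P
  apply le_antisymm c.hHP
  intro x hx
  have : QuotientGroup.mk' H x ∈ (P : Subgroup G).map (QuotientGroup.mk' H) := ⟨x, hx, rfl⟩
  rw [h, Subgroup.mem_bot] at this
  exact (QuotientGroup.eq_one_iff x).mp this

theorem MinCex.lift_npc (c : MinCex p G P H) (Xb : Subgroup (G ⧸ H))
    (hXP : Xb ≤ (P : Subgroup G).map (QuotientGroup.mk' H)) (hXne : Xb ≠ ⊥)
    (hPX : (P : Subgroup G).map (QuotientGroup.mk' H) ≤ Subgroup.normalizer (Xb : Set (G ⧸ H))) :
    HasNormalPComplement p ↥(Subgroup.normalizer (Xb : Set (G ⧸ H))) := by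
  have hsurj := QuotientGroup.mk'_surjective H
  set X := Xb.comap (QuotientGroup.mk' H) with hX
  have hXmap : X.map (QuotientGroup.mk' H) = Xb := Subgroup.map_comap_eq_self_of_surjective hsurj Xb
  have hXleP : X ≤ (P : Subgroup G) := by
    intro x hx
    obtain ⟨u, hu, hux⟩ := hXP (Subgroup.mem_comap.mp hx)
    have h1 : u⁻¹ * x ∈ H := by
      rw [← QuotientGroup.eq]
      exact hux
    have h2 : x = u * (u⁻¹ * x) := by group
    rw [h2]
    exact mul_mem hu (c.hHP h1)
  have hHX : H ≤ X := by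
    intro h hh
    rw [hX, Subgroup.mem_comap]
    have : QuotientGroup.mk' H h = 1 := (QuotientGroup.eq_one_iff h).mpr hh
    rw [this]
    exact one_mem _
  have hlt : H < X := by
    refine lt_of_le_of_ne hHX ?_
    intro heq
    apply hXne
    rw [← hXmap, ← heq, eq_bot_iff]
    rintro _ ⟨h, hh, rfl⟩
    rw [Subgroup.mem_bot]
    exact (QuotientGroup.eq_one_iff h).mpr hh
  have hNX : Subgroup.normalizer (X : Set G) =
      (Subgroup.normalizer (Xb : Set (G ⧸ H))).comap (QuotientGroup.mk' H) :=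
    (Subgroup.comap_normalizer_eq_of_surjective Xb hsurj).symm
  have hPN : (P : Subgroup G) ≤ Subgroup.normalizer (X : Set G) := by
    rw [hNX]
    intro u hu
    exact hPX ⟨u, hu, rfl⟩
  have h1 := c.claimC X (P.isPGroup'.to_le hXleP) hPN (card_lt_of_lt' hlt)
  have h2 := npc_map (QuotientGroup.mk' H) _ h1
  rw [hNX, Subgroup.map_comap_eq_self_of_surjective hsurj] at h2
  exact h2

theorem MinCex.quot_npc (c : MinCex p G P H) : HasNormalPComplement p (G ⧸ H) := by
  have hsurj := QuotientGroup.mk'_surjective H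
  have h1 : Nat.card (G ⧸ H) < Nat.card G := by
    have e := Subgroup.card_eq_card_quotient_mul_card_subgroup H
    have h2 : 1 < Nat.card H := (Subgroup.one_lt_card_iff_ne_bot H).mpr c.hHne
    have h3 : 0 < Nat.card (G ⧸ H) := Nat.card_pos
    rw [e]
    nlinarith
  apply c.ih _ h1 (Sylow.mapSurjective hsurj P)
  rw [Sylow.coe_mapSurjective]
  set Pb := (P : Subgroup G).map (QuotientGroup.mk' H) with hPb
  have hPbp : IsPGroup p Pb := P.isPGroup'.map _
  have hPbne : Pb ≠ ⊥ := c.map_ne_bot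
  constructor
  · exact c.lift_npc _ (TJ_le p Pb) (TJ_ne_bot hPbp hPbne)
      (Subgroup.le_normalizer.trans (normalizer_le_normalizer_TJ Pb))
  · exact npc_of_le (Subgroup.centralizer_le_normalizer _)
      (c.lift_npc _ inf_le_left (Z_ne_bot hPbp hPbne)
        (Subgroup.le_normalizer.trans (normalizer_le_normalizer_Z Pb)))

end Final1

end Cfsg.Agent.Lib.Helper1.TNPC
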