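import Mathlib
import Cfsg.Agent.Lib.Helper1.TNPC.Final1

set_option autoImplicit false

namespace Cfsg.Agent.Lib.Helper1.TNPC

open Cfsg Cfsg.Agent.S5306

open scoped Pointwise

universe u

structure KCtx (p : ℕ) (G : Type u) [Group G] [Finite G] (P : Sylow p G) (H : Subgroup G)
    [H.Normal] (Kb : Subgroup (G ⧸ H)) : Prop where
  hn : Kb.Normal
  hcop : (Nat.card Kb).Coprime p
  hidx : ∃ j : ℕ, Kb.index = p ^ j

section General

variable {G : Type u} [Group G] [Finite G] {p : ℕ} [hp : Fact p.Prime]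

theorem coprime_normal_eq_bot {H M : Subgroup G} [hHn : H.Normal] (hHp : IsPGroup p H)
    (hCH : Subgroup.centralizer (H : Set G) ≤ H) (hHM : H ≤ M) (Y : Subgroup M) [hYn : Y.Normal]
    (hY : (Nat.card Y).Coprime p) : Y = ⊥ := by
  have hdisj : H ⊓ Y.map M.subtype = ⊥ := by
    apply (Subgroup.disjoint_of_coprime_natCard _).eq_bot
    rw [Subgroup.card_map_of_injective M.subtype_injective]
    obtain ⟨a, ha⟩ := IsPGroup.iff_card.mp hHp
    rw [ha]
    exact (Nat.Coprime.pow_right a hY).symm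
  rw [eq_bot_iff]
  intro y hy
  have hyG : (y : G) ∈ Y.map M.subtype := ⟨y, hy, rfl⟩
  have hcent : (y : G) ∈ Subgroup.centralizer (H : Set G) := by
    rw [Subgroup.mem_centralizer_iff]
    intro h hh
    have hc1 : (y : G) * h * (y : G)⁻¹ * h⁻¹ ∈ H := mul_mem (hHn.conj_mem h hh y) (inv_mem hh)
    have hc2 : (y : G) * h * (y : G)⁻¹ * h⁻¹ ∈ Y.map M.subtype := by
      refine ⟨y * ((⟨h, hHM hh⟩ : M) * y⁻¹ * (⟨h, hHM hh⟩ : M)⁻¹),
        mul_mem hy (hYn.conj_mem y⁻¹ (inv_mem hy) _), ?_⟩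
      simp [mul_assoc]
    have h3 : (y : G) * h * (y : G)⁻¹ * h⁻¹ ∈ H ⊓ Y.map M.subtype := ⟨hc1, hc2⟩
    rw [hdisj, Subgroup.mem_bot] at h3
    have h4 : (y : G) * h * (y : G)⁻¹ = h := mul_inv_eq_one.mp h3
    calc h * (y : G) = ((y : G) * h * (y : G)⁻¹) * (y : G) := by rw [h4]
      _ = (y : G) * h := by group
  have h5 : (y : G) ∈ H ⊓ Y.map M.subtype := ⟨hCH hcent, hyG⟩
  rw [hdisj, Subgroup.mem_bot] at h5
  rw [Subgroup.mem_bot]
  exact Subtype.ext h5

end General

section Final2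

variable {G : Type u} [Group G] [Finite G] {p : ℕ} [hp : Fact p.Prime] {P : Sylow p G}
  {H : Subgroup G} [hHn : H.Normal] {Kb : Subgroup (G ⧸ H)}

theorem KCtx.H_le (_k : KCtx p G P H Kb) : H ≤ Kb.comap (QuotientGroup.mk' H) := by
  intro h hh
  rw [Subgroup.mem_comap]
  have : QuotientGroup.mk' H h = 1 := (QuotientGroup.eq_one_iff h).mpr hh
  rw [this]
  exact one_mem _

theorem KCtx.normal (k : KCtx p G P H Kb) : (Kb.comap (QuotientGroup.mk' H)).Normal := by
  haveI := k.hn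
  infer_instance

theorem KCtx.map_eq (_k : KCtx p G P H Kb) :
    (Kb.comap (QuotientGroup.mk' H)).map (QuotientGroup.mk' H) = Kb :=
  Subgroup.map_comap_eq_self_of_surjective (QuotientGroup.mk'_surjective H) Kb

theorem KCtx.disj (k : KCtx p G P H Kb) :
    Kb ⊓ (P : Subgroup G).map (QuotientGroup.mk' H) = ⊥ := by
  apply (Subgroup.disjoint_of_coprime_natCard _).eq_bot
  have hPbp : IsPGroup p ((P : Subgroup G).map (QuotientGroup.mk' H)) := P.isPGroup'.map _
  obtain ⟨a, ha⟩ := IsPGroup.iff_card.mp hPbp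
  rw [ha]
  exact Nat.Coprime.pow_right a k.hcop

theorem KCtx.inf_le (k : KCtx p G P H Kb) :
    Kb.comap (QuotientGroup.mk' H) ⊓ (P : Subgroup G) ≤ H := by
  rintro x ⟨hxK, hxP⟩
  have h1 : QuotientGroup.mk' H x ∈ Kb ⊓ (P : Subgroup G).map (QuotientGroup.mk' H) :=
    ⟨hxK, ⟨x, hxP, rfl⟩⟩
  rw [k.disj, Subgroup.mem_bot] at h1
  exact (QuotientGroup.eq_one_iff x).mp h1

theorem KCtx.compl (k : KCtx p G P H Kb) :
    Kb.IsComplement' ((P : Subgroup G).map (QuotientGroup.mk' H)) := by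
  obtain ⟨j, hj⟩ := k.hidx
  have := Cfsg.Agent.S0072.isComplement'_sylow_of_normal_pcomp Kb k.hcop hj
    (Sylow.mapSurjective (QuotientGroup.mk'_surjective H) P)
  rw [Sylow.coe_mapSurjective] at this
  exact this

theorem KCtx.decomp (k : KCtx p G P H Kb) (g : G) :
    ∃ x ∈ Kb.comap (QuotientGroup.mk' H), ∃ u ∈ (P : Subgroup G), g = x * u := by
  have hmul : (Kb : Set (G ⧸ H)) * (((P : Subgroup G).map (QuotientGroup.mk' H) : Subgroup (G ⧸ H)) : Set (G ⧸ H)) = Set.univ :=
    (Subgroup.isComplement'_def.mp k.compl).mul_eq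
  have hg : QuotientGroup.mk' H g ∈ (Kb : Set (G ⧸ H)) * (((P : Subgroup G).map (QuotientGroup.mk' H) : Subgroup (G ⧸ H)) : Set (G ⧸ H)) := by
    rw [hmul]
    trivial
  obtain ⟨kb, hkb, ub, ⟨u, hu, rfl⟩, hprod⟩ := hg
  refine ⟨g * u⁻¹, ?_, u, hu, by group⟩
  rw [Subgroup.mem_comap, map_mul, map_inv]
  have hprod' : kb * QuotientGroup.mk' H u = QuotientGroup.mk' H g := hprod
  rw [← hprod', mul_inv_cancel_right]
  exact hkb

theorem KCtx.relIndex_eq (k : KCtx p G P H Kb) :
    H.relIndex (Kb.comap (QuotientGroup.mk' H)) = Nat.card Kb := by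
  have h1 := Subgroup.relIndex_comap (⊥ : Subgroup (G ⧸ H)) (QuotientGroup.mk' H)
    (Kb.comap (QuotientGroup.mk' H))
  rw [k.map_eq, Subgroup.relIndex_bot_left, MonoidHom.comap_bot, QuotientGroup.ker_mk'] at h1
  exact h1

theorem KCtx.index_eq (k : KCtx p G P H Kb) :
    ∃ j : ℕ, (Kb.comap (QuotientGroup.mk' H)).index = p ^ j := by
  obtain ⟨j, hj⟩ := k.hidx
  exact ⟨j, by rw [Subgroup.index_comap_of_surjective _ (QuotientGroup.mk'_surjective H), hj]⟩

theorem cent_le (c : MinCex p G P H) (k : KCtx p G P H Kb) :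
    Subgroup.centralizer (H : Set G) ≤ H := by
  set K := Kb.comap (QuotientGroup.mk' H) with hK
  haveI hKn : K.Normal := k.normal
  have hsol : Cfsg.IsPSolvable p G := by
    refine ⟨3, ![⊥, H, K, ⊤], rfl, rfl, ?_, ?_, ?_⟩
    · rw [Fin.monotone_iff_le_succ]
      intro i
      fin_cases i
      · show (⊥ : Subgroup G) ≤ H
        exact bot_le
      · show H ≤ K
        exact k.H_le
      · show K ≤ ⊤
        exact le_top
    · intro i
      fin_cases i
      · show (⊥ : Subgroup G).Normal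
        infer_instance
      · exact hHn
      · exact hKn
      · show (⊤ : Subgroup G).Normal
        infer_instance
    · intro i
      fin_cases i
      · left
        obtain ⟨a, ha⟩ := IsPGroup.iff_card.mp c.hHp
        refine ⟨a, ?_⟩
        show (⊥ : Subgroup G).relIndex H = p ^ a
        rw [Subgroup.relIndex_bot_left, ha]
      · right
        show (H.relIndex K).Coprime p
        rw [k.relIndex_eq]
        exact k.hcop
      · left
        obtain ⟨j, hj⟩ := k.index_eq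
        refine ⟨j, ?_⟩
        show K.relIndex ⊤ = p ^ j
        rw [Subgroup.relIndex_top_right, hj]
  have hO : Cfsg.pPrimeCore p G = ⊥ := by
    unfold Cfsg.pPrimeCore
    rw [sSup_eq_bot]
    rintro N ⟨hN, hc⟩
    haveI := hN
    exact c.opp N hc
  have hcore : Cfsg.pCore p G = H := by
    apply le_antisymm
    · exact c.normal_pgroup_le _ (Cfsg.Agent.Lib.Helper1.pCore_isPGroup p)
    · exact le_sSup ⟨hHn, c.hHp⟩
  have := Cfsg.Agent.Lib.Helper5.h5_centralizer_pCore_le hsol hO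
  rw [hcore] at this
  exact this

theorem F2 (c : MinCex p G P H) (k : KCtx p G P H Kb) (K₁ : Subgroup G) (h1 : H ≤ K₁)
    (h2 : K₁ ≤ Kb.comap (QuotientGroup.mk' H))
    (h3 : (P : Subgroup G) ≤ Subgroup.normalizer (K₁ : Set G))
    (h4 : K₁ ≠ Kb.comap (QuotientGroup.mk' H)) : K₁ = H := by
  set K := Kb.comap (QuotientGroup.mk' H) with hK
  have hCH := cent_le c k
  set M := K₁ ⊔ (P : Subgroup G) with hM
  have hMne : M ≠ ⊤ := by
    intro htop
    apply h4
    apply le_antisymm h2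
    intro x hx
    have hxM : x ∈ ((K₁ ⊔ (P : Subgroup G) : Subgroup G) : Set G) := by
      rw [← hM, htop]
      trivial
    rw [Subgroup.coe_mul_of_right_le_normalizer_left K₁ _ h3] at hxM
    obtain ⟨k₁, hk₁, u, hu, hku⟩ := hxM
    have hku' : k₁ * u = x := hku
    have huK : u ∈ K := by
      have : u = k₁⁻¹ * x := by rw [← hku']; group
      rw [this]
      exact mul_mem (inv_mem (h2 hk₁)) hx
    have huH : u ∈ H := k.inf_le ⟨huK, hu⟩
    rw [← hku']
    exact mul_mem hk₁ (h1 huH)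
  have hPM : (P : Subgroup G) ≤ M := le_sup_right
  have hPeq : ((P.subtype hPM : Sylow p M) : Subgroup M).map M.subtype = (P : Subgroup G) := by
    rw [Sylow.coe_subtype, Subgroup.subgroupOf_map_subtype]
    exact inf_eq_left.mpr hPM
  have hnpc : HasNormalPComplement p ↥M := by
    apply sub_step c.ih M hMne (P.subtype hPM)
    rw [hPeq]
    exact c.hyp
  obtain ⟨Y, hYn, hYc, j, hj⟩ := npc_iff.mp hnpc
  haveI := hYn
  have hYbot : Y = ⊥ := coprime_normal_eq_bot c.hHp hCH (h1.trans le_sup_left) Y hYc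
  rw [hYbot, Subgroup.index_bot] at hj
  have hMp : IsPGroup p M := IsPGroup.of_card hj
  have hMP : M = (P : Subgroup G) := P.is_maximal' hMp hPM
  have hK₁P : K₁ ≤ (P : Subgroup G) := by
    rw [← hMP]
    exact le_sup_left
  exact le_antisymm (fun x hx => k.inf_le ⟨h2 hx, hK₁P hx⟩) h1

theorem K_ne_H (c : MinCex p G P H) (k : KCtx p G P H Kb) :
    Kb.comap (QuotientGroup.mk' H) ≠ H := by
  intro h
  apply c.cex
  apply npc_of_isPGroup
  have htop : (P : Subgroup G) = ⊤ := by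
    rw [eq_top_iff]
    intro g _
    obtain ⟨x, hx, u, hu, rfl⟩ := k.decomp g
    rw [h] at hx
    exact mul_mem (c.hHP hx) hu
  have hP := P.isPGroup'
  rw [htop] at hP
  exact IsPGroup.of_equiv hP Subgroup.topEquiv

end Final2

end Cfsg.Agent.Lib.Helper1.TNPC
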