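import Mathlib

set_option autoImplicit false

namespace Cfsg.Agent.Lib.Helper1.TNPC

section Ring

variable {R : Type*} [Ring R] {p : ℕ}

theorem add_pow_ppow (hp : p.Prime) (hpR : (p : R) = 0) {x y : R} (h : Commute x y) (m : ℕ) :
    (x + y) ^ p ^ m = x ^ p ^ m + y ^ p ^ m := by
  obtain ⟨r, hr⟩ := h.exists_add_pow_prime_pow_eq hp m
  rw [hr, hpR]
  simp

def FrobFixed (p m : ℕ) (x : R) : Prop := x ^ p ^ m = x

theorem FrobFixed.add (hp : p.Prime) (hpR : (p : R) = 0) {m : ℕ} {x y : R} (h : Commute x y)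
    (hx : FrobFixed p m x) (hy : FrobFixed p m y) : FrobFixed p m (x + y) := by
  unfold FrobFixed at *
  rw [add_pow_ppow hp hpR h, hx, hy]

theorem FrobFixed.neg (hp : p.Prime) (hp2 : p ≠ 2) {m : ℕ} {x : R}
    (hx : FrobFixed p m x) : FrobFixed p m (-x) := by
  unfold FrobFixed at *
  have hodd : Odd (p ^ m) := (hp.odd_of_ne_two hp2).pow
  rw [Odd.neg_pow hodd, hx]

theorem FrobFixed.of_pow_eq_one (hp : p.Prime) {m n : ℕ} (hm : p ^ m % n = 1 % n) {x : R}
    (hx : x ^ n = 1) : FrobFixed p m x := by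
  unfold FrobFixed
  have h1 : p ^ m = n * (p ^ m / n) + p ^ m % n := (Nat.div_add_mod _ _).symm
  rcases Nat.eq_zero_or_pos n with rfl | hn
  · simp at hx
    have : p ^ m = 1 := by simpa using hm
    rw [this, pow_one]
  rcases Nat.lt_or_ge 1 n with h1n | h1n
  · rw [Nat.mod_eq_of_lt h1n] at hm
    rw [h1, hm, pow_add, pow_mul, hx, one_pow, one_mul, pow_one]
  · have hn1 : n = 1 := le_antisymm h1n hn
    subst hn1
    rw [pow_one] at hx
    rw [hx, one_pow]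

theorem eq_zero_of_frobFixed_of_sq (hp : p.Prime) {m : ℕ} (hm : 1 ≤ m) {r : R}
    (hr : FrobFixed p m r) (hsq : r * r = 0) : r = 0 := by
  unfold FrobFixed at hr
  have h2 : 2 ≤ p ^ m := by
    calc 2 ≤ p := hp.two_le
      _ = p ^ 1 := (pow_one p).symm
      _ ≤ p ^ m := Nat.pow_le_pow_right hp.pos hm
  obtain ⟨k, hk⟩ := Nat.exists_eq_add_of_le h2
  rw [← hr, hk, pow_add, pow_two, hsq, zero_mul]

theorem exists_frob_exp (hp : p.Prime) {n : ℕ} (hn : 0 < n) (hcop : n.Coprime p) :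
    ∃ m : ℕ, 1 ≤ m ∧ p ^ m % n = 1 % n := by
  refine ⟨Nat.totient n, Nat.totient_pos.mpr hn, ?_⟩
  exact Nat.ModEq.pow_totient hcop.symm

theorem eq_zero_of_two_mul (hp : p.Prime) (hp2 : p ≠ 2) (hpR : (p : R) = 0) {y : R}
    (h : y + y = 0) : y = 0 := by
  obtain ⟨k, hk⟩ := hp.odd_of_ne_two hp2
  have h1 : (p : R) * y = 0 := by rw [hpR, zero_mul]
  rw [hk] at h1
  push_cast at h1
  have h2 : (2 * (k : R) + 1) * y = (k : R) * (y + y) + y := by noncomm_ring
  rw [h2, h, mul_zero, zero_add] at h1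
  exact h1

theorem quad_E (hp : p.Prime) (hp2 : p ≠ 2) (hpR : (p : R) = 0) {m : ℕ} (hm : 1 ≤ m)
    (N ξ : R) (hN : N * N = 0)
    (h01 : Commute ξ ((1 + N) * ξ * (1 - N)))
    (h02 : Commute ξ ((1 + N + N) * ξ * (1 - N - N)))
    (h12 : Commute ((1 + N) * ξ * (1 - N)) ((1 + N + N) * ξ * (1 - N - N)))
    (hf0 : FrobFixed p m ξ) (hf1 : FrobFixed p m ((1 + N) * ξ * (1 - N)))
    (hf2 : FrobFixed p m ((1 + N + N) * ξ * (1 - N - N))) :
    N * ξ * N = 0 := by
  set ξ₁ := (1 + N) * ξ * (1 - N) with hξ₁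
  set ξ₂ := (1 + N + N) * ξ * (1 - N - N) with hξ₂
  set r := ξ₂ + (-(ξ₁ + ξ₁)) + ξ with hr
  have hrE : r = -(N * ξ * N + N * ξ * N) := by
    rw [hr, hξ₁, hξ₂]; noncomm_ring
  have hf11 : FrobFixed p m (ξ₁ + ξ₁) := FrobFixed.add hp hpR (Commute.refl _) hf1 hf1
  have hfn : FrobFixed p m (-(ξ₁ + ξ₁)) := FrobFixed.neg hp hp2 hf11
  have hc1 : Commute ξ₂ (-(ξ₁ + ξ₁)) := (Commute.add_right h12.symm h12.symm).neg_right
  have hfa : FrobFixed p m (ξ₂ + (-(ξ₁ + ξ₁))) := FrobFixed.add hp hpR hc1 hf2 hfn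
  have hc2 : Commute (ξ₂ + (-(ξ₁ + ξ₁))) ξ :=
    Commute.add_left h02.symm (Commute.add_left h01.symm h01.symm).neg_left
  have hfr : FrobFixed p m r := FrobFixed.add hp hpR hc2 hfa hf0
  have hsq : r * r = 0 := by
    rw [hrE]
    have h1 : N * ξ * N * (N * ξ * N) = 0 := by
      have : N * ξ * N * (N * ξ * N) = N * ξ * (N * N) * ξ * N := by noncomm_ring
      rw [this, hN]; simp
    have : -(N * ξ * N + N * ξ * N) * -(N * ξ * N + N * ξ * N) =
        (N * ξ * N * (N * ξ * N)) + (N * ξ * N * (N * ξ * N)) + (N * ξ * N * (N * ξ * N)) +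
          (N * ξ * N * (N * ξ * N)) := by noncomm_ring
    rw [this, h1]; simp
  have hr0 : r = 0 := eq_zero_of_frobFixed_of_sq hp hm hfr hsq
  rw [hrE, neg_eq_zero] at hr0
  exact eq_zero_of_two_mul hp hp2 hpR hr0

theorem quad_D (hp : p.Prime) (hp2 : p ≠ 2) (hpR : (p : R) = 0) {m : ℕ} (hm : 1 ≤ m)
    (N ξ : R) (hN : N * N = 0) (hE : N * ξ * N = 0) (hE2 : N * (ξ * ξ) * N = 0)
    (h01 : Commute ξ ((1 + N) * ξ * (1 - N)))
    (hf0 : FrobFixed p m ξ) (hf1 : FrobFixed p m ((1 + N) * ξ * (1 - N))) :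
    (1 + N) * ξ * (1 - N) = ξ := by
  set ξ₁ := (1 + N) * ξ * (1 - N) with hξ₁
  set s := ξ₁ + (-ξ) with hs
  have hsE : s = N * ξ - ξ * N := by
    have : s = N * ξ - ξ * N - N * ξ * N := by rw [hs, hξ₁]; noncomm_ring
    rw [this, hE, sub_zero]
  have hfs : FrobFixed p m s :=
    FrobFixed.add hp hpR h01.symm.neg_right hf1 (FrobFixed.neg hp hp2 hf0)
  have hsq : s * s = 0 := by
    rw [hsE]
    have : (N * ξ - ξ * N) * (N * ξ - ξ * N) =
        N * ξ * N * ξ - N * (ξ * ξ) * N - ξ * (N * N) * ξ + ξ * (N * ξ * N) := by noncomm_ring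
    rw [this, hE, hE2, hN]; simp
  have hs0 : s = 0 := eq_zero_of_frobFixed_of_sq hp hm hfs hsq
  rw [hs] at hs0
  exact add_neg_eq_zero.mp hs0

theorem conj_pow_eq {α β : R} (hβα : β * α = 1) (ξ : R) (n : ℕ) :
    (α * ξ * β) ^ n * α = α * ξ ^ n := by
  induction n with
  | zero => simp
  | succ k ih =>
    rw [pow_succ', mul_assoc, ih, pow_succ']
    calc α * ξ * β * (α * ξ ^ k) = α * ξ * (β * α) * ξ ^ k := by noncomm_ring
      _ = α * (ξ * ξ ^ k) := by rw [hβα]; noncomm_ring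

theorem conj_pow_eq_one {α β : R} (hαβ : α * β = 1) (hβα : β * α = 1) {ξ : R} {n : ℕ}
    (h : ξ ^ n = 1) : (α * ξ * β) ^ n = 1 := by
  have h1 := conj_pow_eq hβα ξ n
  rw [h, mul_one] at h1
  calc (α * ξ * β) ^ n = (α * ξ * β) ^ n * (α * β) := by rw [hαβ, mul_one]
    _ = ((α * ξ * β) ^ n * α) * β := (mul_assoc _ _ _).symm
    _ = 1 := by rw [h1, hαβ]

theorem quad_commute (hp : p.Prime) (hp2 : p ≠ 2) (hpR : (p : R) = 0)
    (α β ξ : R) (hαβ : α * β = 1) (hβα : β * α = 1) (hN : (α - 1) * (α - 1) = 0)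
    {n : ℕ} (hn : 0 < n) (hcop : n.Coprime p) (hξn : ξ ^ n = 1)
    (h01 : Commute ξ (α * ξ * β))
    (h02 : Commute ξ (α * (α * ξ * β) * β))
    (h12 : Commute (α * ξ * β) (α * (α * ξ * β) * β)) :
    α * ξ * β = ξ := by
  obtain ⟨m, hm1, hm⟩ := exists_frob_exp hp hn hcop
  set N := α - 1 with hNdef
  have hα : α = 1 + N := by rw [hNdef]; noncomm_ring
  have hβ : β = 1 - N := by
    have h1 : α * (1 - N) = 1 := by
      have : α * (1 - N) = 1 - N * N := by rw [hα]; noncomm_ring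
      rw [this, hN, sub_zero]
    calc β = β * (α * (1 - N)) := by rw [h1, mul_one]
      _ = (β * α) * (1 - N) := by rw [mul_assoc]
      _ = 1 - N := by rw [hβα, one_mul]
  have hαα : α * α = 1 + N + N := by
    have : α * α = 1 + N + N + N * N := by rw [hα]; noncomm_ring
    rw [this, hN, add_zero]
  have hββ : β * β = 1 - N - N := by
    have : β * β = 1 - N - N + N * N := by rw [hβ]; noncomm_ring
    rw [this, hN, add_zero]
  have e2 : ∀ η : R, α * (α * η * β) * β = (1 + N + N) * η * (1 - N - N) := by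
    intro η
    rw [← hαα, ← hββ]; noncomm_ring
  have e1 : ∀ η : R, α * η * β = (1 + N) * η * (1 - N) := by
    intro η; rw [← hα, ← hβ]
  have key : ∀ η : R, η ^ n = 1 → Commute η (α * η * β) → Commute η (α * (α * η * β) * β) →
      Commute (α * η * β) (α * (α * η * β) * β) → N * η * N = 0 := by
    intro η hη c01 c02 c12
    have f0 : FrobFixed p m η := FrobFixed.of_pow_eq_one hp hm hη
    have f1 : FrobFixed p m (α * η * β) :=
      FrobFixed.of_pow_eq_one hp hm (conj_pow_eq_one hαβ hβα hη)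
    have f2 : FrobFixed p m (α * (α * η * β) * β) :=
      FrobFixed.of_pow_eq_one hp hm (conj_pow_eq_one hαβ hβα (conj_pow_eq_one hαβ hβα hη))
    rw [e2 η] at c02 c12 f2
    rw [e1 η] at c01 c12 f1
    exact quad_E hp hp2 hpR hm1 N η hN c01 c02 c12 f0 f1 f2
  have hE : N * ξ * N = 0 := key ξ hξn h01 h02 h12
  have sq1 : α * (ξ * ξ) * β = (α * ξ * β) * (α * ξ * β) := by
    calc α * (ξ * ξ) * β = α * ξ * 1 * ξ * β := by noncomm_ring
      _ = α * ξ * (β * α) * ξ * β := by rw [hβα]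
      _ = (α * ξ * β) * (α * ξ * β) := by noncomm_ring
  have sq2 : α * (α * (ξ * ξ) * β) * β = (α * (α * ξ * β) * β) * (α * (α * ξ * β) * β) := by
    rw [sq1]
    calc α * ((α * ξ * β) * (α * ξ * β)) * β = α * (α * ξ * β) * 1 * (α * ξ * β) * β := by
          noncomm_ring
      _ = α * (α * ξ * β) * (β * α) * (α * ξ * β) * β := by rw [hβα]
      _ = _ := by noncomm_ring
  have hE2 : N * (ξ * ξ) * N = 0 := by
    apply key (ξ * ξ)
    · rw [← pow_two, ← pow_mul, mul_comm, pow_mul, hξn, one_pow]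
    · rw [sq1]; exact (h01.mul_right h01).mul_left (h01.mul_right h01)
    · rw [sq2]; exact (h02.mul_right h02).mul_left (h02.mul_right h02)
    · rw [sq2, sq1]; exact (h12.mul_right h12).mul_left (h12.mul_right h12)
  have f0 : FrobFixed p m ξ := FrobFixed.of_pow_eq_one hp hm hξn
  have f1 : FrobFixed p m (α * ξ * β) :=
    FrobFixed.of_pow_eq_one hp hm (conj_pow_eq_one hαβ hβα hξn)
  rw [e1 ξ] at h01 f1 ⊢
  exact quad_D hp hp2 hpR hm1 N ξ hN hE hE2 h01 f0 f1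

end Ring

end Cfsg.Agent.Lib.Helper1.TNPC
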