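import Mathlib
import Cfsg.Agent.Lib.Helper1.TNPC.QuadRing

set_option autoImplicit false

namespace Cfsg.Agent.Lib.Helper1.TNPC

open scoped IsMulCommutative

section

variable {G : Type*} [Group G] (V : Subgroup G) [hVn : V.Normal] [IsMulCommutative V]

def rho : G →* AddMonoid.End (Additive ↥V) where
  toFun g := MonoidHom.toAdditive ((MulAut.conjNormal g : ↥V ≃* ↥V).toMonoidHom)
  map_one' := by
    ext w
    rw [map_one]
    rfl
  map_mul' g h := by
    ext w
    rw [map_mul]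
    rfl

theorem rho_apply_val (g : G) (v : ↥V) :
    ((Additive.toMul (rho V g (Additive.ofMul v)) : ↥V) : G) = g * (v : G) * g⁻¹ := by
  change (((MulAut.conjNormal g : ↥V ≃* ↥V) v : ↥V) : G) = _
  rw [MulAut.conjNormal_apply]

theorem additive_ext {x y : Additive ↥V}
    (h : ((Additive.toMul x : ↥V) : G) = ((Additive.toMul y : ↥V) : G)) : x = y := by
  have h1 : Additive.toMul x = Additive.toMul y := Subtype.ext h
  exact Additive.toMul.injective h1

theorem rho_eq_one_iff (g : G) : rho V g = 1 ↔ g ∈ Subgroup.centralizer (V : Set G) := by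
  rw [Subgroup.mem_centralizer_iff]
  constructor
  · intro h v hv
    have h1 := rho_apply_val V g ⟨v, hv⟩
    rw [h] at h1
    change v = g * v * g⁻¹ at h1
    calc v * g = (g * v * g⁻¹) * g := by rw [← h1]
      _ = g * v := by group
  · intro h
    ext w
    obtain ⟨v, rfl⟩ : ∃ v : ↥V, Additive.ofMul v = w := ⟨Additive.toMul w, rfl⟩
    rw [rho_apply_val]
    change g * (v : G) * g⁻¹ = (v : G)
    rw [← h v v.2]; group

theorem rho_commute_of_comm_mem (y z : G)
    (h : y * z * y⁻¹ * z⁻¹ ∈ Subgroup.centralizer (V : Set G)) :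
    Commute (rho V y) (rho V z) := by
  have h1 := (rho_eq_one_iff V _).mpr h
  rw [map_mul, map_mul, map_mul] at h1
  have hy : rho V y * rho V y⁻¹ = 1 := by rw [← map_mul, mul_inv_cancel, map_one]
  have hz : rho V z⁻¹ * rho V z = 1 := by rw [← map_mul, inv_mul_cancel, map_one]
  have hy' : rho V y⁻¹ * rho V y = 1 := by rw [← map_mul, inv_mul_cancel, map_one]
  change rho V y * rho V z = rho V z * rho V y
  calc rho V y * rho V z = (rho V y * rho V z * rho V y⁻¹ * rho V z⁻¹) * rho V z * rho V y := by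
        rw [mul_assoc (rho V y * rho V z * rho V y⁻¹), hz, mul_one,
          mul_assoc (rho V y * rho V z), hy', mul_one]
    _ = rho V z * rho V y := by rw [h1, one_mul]

theorem natCast_rho_zero {p : ℕ} (hVp : ∀ v ∈ V, v ^ p = 1) :
    ((p : ℕ) : AddMonoid.End (Additive ↥V)) = 0 := by
  ext w
  obtain ⟨v, rfl⟩ : ∃ v : ↥V, Additive.ofMul v = w := ⟨Additive.toMul w, rfl⟩
  rw [AddMonoid.End.natCast_apply]
  change ((v ^ p : ↥V) : G) = 1
  rw [Subgroup.coe_pow]
  exact hVp v v.2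

theorem rho_quad (a : G) (hquad : ∀ v ∈ V, Commute a (a * v * a⁻¹ * v⁻¹)) :
    (rho V a - 1) * (rho V a - 1) = 0 := by
  have key : ∀ v : ↥V, ((Additive.toMul ((rho V a - 1) (Additive.ofMul v)) : ↥V) : G) =
      a * (v : G) * a⁻¹ * (v : G)⁻¹ := by
    intro v
    change (((MulAut.conjNormal a : ↥V ≃* ↥V) v / v : ↥V) : G) = _
    rw [Subgroup.coe_div, MulAut.conjNormal_apply, div_eq_mul_inv]
  ext w
  obtain ⟨v, rfl⟩ : ∃ v : ↥V, Additive.ofMul v = w := ⟨Additive.toMul w, rfl⟩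
  change ((Additive.toMul ((rho V a - 1) ((rho V a - 1) (Additive.ofMul v))) : ↥V) : G) = 1
  obtain ⟨c, hc⟩ : ∃ c : ↥V, Additive.ofMul c = (rho V a - 1) (Additive.ofMul v) :=
    ⟨Additive.toMul _, rfl⟩
  rw [← hc, key c]
  have hcv : (c : G) = a * (v : G) * a⁻¹ * (v : G)⁻¹ := by
    rw [← key v, ← hc]; rfl
  have h1 := hquad v v.2
  rw [← hcv] at h1
  have h2 : a * (c : G) = (c : G) * a := h1
  rw [h2]; group

theorem quad_centralizes {p : ℕ} (hp : p.Prime) (hp2 : p ≠ 2) (hVp : ∀ v ∈ V, v ^ p = 1)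
    (a x : G) (hquad : ∀ v ∈ V, Commute a (a * v * a⁻¹ * v⁻¹))
    {n : ℕ} (hn : 0 < n) (hcop : n.Coprime p)
    (hxn : x ^ n ∈ Subgroup.centralizer (V : Set G))
    (h01 : x * (a * x * a⁻¹) * x⁻¹ * (a * x * a⁻¹)⁻¹ ∈ Subgroup.centralizer (V : Set G))
    (h02 : x * (a * (a * x * a⁻¹) * a⁻¹) * x⁻¹ * (a * (a * x * a⁻¹) * a⁻¹)⁻¹ ∈
      Subgroup.centralizer (V : Set G))
    (h12 : (a * x * a⁻¹) * (a * (a * x * a⁻¹) * a⁻¹) * (a * x * a⁻¹)⁻¹ *
      (a * (a * x * a⁻¹) * a⁻¹)⁻¹ ∈ Subgroup.centralizer (V : Set G)) :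
    a * x * a⁻¹ * x⁻¹ ∈ Subgroup.centralizer (V : Set G) := by
  have hαβ : rho V a * rho V a⁻¹ = 1 := by rw [← map_mul, mul_inv_cancel, map_one]
  have hβα : rho V a⁻¹ * rho V a = 1 := by rw [← map_mul, inv_mul_cancel, map_one]
  have hξn : rho V x ^ n = 1 := by rw [← map_pow]; exact (rho_eq_one_iff V _).mpr hxn
  have e1 : rho V a * rho V x * rho V a⁻¹ = rho V (a * x * a⁻¹) := by
    rw [map_mul, map_mul]
  have e2 : rho V a * (rho V a * rho V x * rho V a⁻¹) * rho V a⁻¹ =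
      rho V (a * (a * x * a⁻¹) * a⁻¹) := by
    rw [map_mul, map_mul, e1]
  have c01 : Commute (rho V x) (rho V a * rho V x * rho V a⁻¹) := by
    rw [e1]; exact rho_commute_of_comm_mem V _ _ h01
  have c02 : Commute (rho V x) (rho V a * (rho V a * rho V x * rho V a⁻¹) * rho V a⁻¹) := by
    rw [e2]; exact rho_commute_of_comm_mem V _ _ h02
  have c12 : Commute (rho V a * rho V x * rho V a⁻¹)
      (rho V a * (rho V a * rho V x * rho V a⁻¹) * rho V a⁻¹) := by
    rw [e2, e1]; exact rho_commute_of_comm_mem V _ _ h12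
  have key := quad_commute hp hp2 (natCast_rho_zero V hVp) (rho V a) (rho V a⁻¹) (rho V x)
    hαβ hβα (rho_quad V a hquad) hn hcop hξn c01 c02 c12
  rw [← rho_eq_one_iff V]
  have hx : rho V x * rho V x⁻¹ = 1 := by rw [← map_mul, mul_inv_cancel, map_one]
  rw [map_mul, map_mul, map_mul, key, hx]

end

end Cfsg.Agent.Lib.Helper1.TNPC
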