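import Mathlib
import Cfsg.Agent.Lib.Helper1.TNPC.Final2
import Cfsg.Agent.Lib.Helper1.TNPC.QuadRep

set_option autoImplicit false

namespace Cfsg.Agent.Lib.Helper1.TNPC

open Cfsg Cfsg.Agent.S5306

open scoped Pointwise

universe u

section General3

variable {G : Type u} [Group G] [Finite G] {p : ℕ} [hp : Fact p.Prime]

theorem mem_of_index_pow {N : Subgroup G} [N.Normal] {k : ℕ} (hk : N.index = p ^ k) (x : G)
    (hx : (orderOf x).Coprime p) : x ∈ N := by
  have hQ : IsPGroup p (G ⧸ N) := by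
    apply IsPGroup.of_card (n := k)
    rw [← hk]
    rfl
  obtain ⟨j, hj⟩ := IsPGroup.iff_orderOf.mp hQ (x : G ⧸ N)
  have h1 : orderOf (x : G ⧸ N) ∣ orderOf x := orderOf_map_dvd (QuotientGroup.mk' N) x
  have h2 : (orderOf (x : G ⧸ N)).Coprime p := Nat.Coprime.coprime_dvd_left h1 hx
  rw [hj] at h2
  have hj0 : j = 0 := by
    by_contra hj0
    have := (Nat.coprime_pow_left_iff (Nat.pos_of_ne_zero hj0) p p).mp h2
    rw [Nat.coprime_self] at this
    exact hp.out.one_lt.ne' this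
  rw [hj0, pow_zero, orderOf_eq_one_iff] at hj
  exact (QuotientGroup.eq_one_iff x).mp hj

theorem isPGroup_of_coprime_trivial (C : Subgroup G)
    (h : ∀ y ∈ C, (orderOf y).Coprime p → y = 1) : IsPGroup p C := by
  intro x
  have hx0 : orderOf (x : G) ≠ 0 := (orderOf_pos _).ne'
  obtain ⟨e, m, hm, hem⟩ := Nat.exists_eq_pow_mul_and_not_dvd hx0 p hp.out.ne_one
  refine ⟨e, ?_⟩
  have h1 : orderOf ((x : G) ^ (p ^ e)) = m := by
    rw [orderOf_pow_of_dvd (pow_ne_zero e hp.out.ne_zero) ⟨m, hem⟩, hem,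
      Nat.mul_div_cancel_left _ (pow_pos hp.out.pos e)]
  have h2 : (x : G) ^ (p ^ e) = 1 :=
    h _ (C.pow_mem x.2 _) (by rw [h1]; exact (hp.out.coprime_iff_not_dvd.mpr hm).symm)
  apply Subtype.ext
  rw [Subgroup.coe_pow]
  exact h2

def omegaZ (p : ℕ) (H : Subgroup G) : Subgroup G where
  carrier := {v | v ∈ H ∧ v ∈ Subgroup.centralizer (H : Set G) ∧ v ^ p = 1}
  one_mem' := ⟨one_mem _, one_mem _, one_pow _⟩
  mul_mem' := by
    rintro a b ⟨ha, hac, hap⟩ ⟨hb, hbc, hbp⟩
    refine ⟨mul_mem ha hb, mul_mem hac hbc, ?_⟩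
    have hcomm : Commute a b := (Subgroup.mem_centralizer_iff.mp hbc a ha)
    rw [hcomm.mul_pow, hap, hbp, one_mul]
  inv_mem' := by
    rintro a ⟨ha, hac, hap⟩
    exact ⟨inv_mem ha, inv_mem hac, by rw [inv_pow, hap, inv_one]⟩

theorem mem_omegaZ {H : Subgroup G} {v : G} :
    v ∈ omegaZ p H ↔ v ∈ H ∧ v ∈ Subgroup.centralizer (H : Set G) ∧ v ^ p = 1 := Iff.rfl

theorem omegaZ_le (H : Subgroup G) : omegaZ p H ≤ H := fun _ hv => hv.1

theorem omegaZ_ea (H : Subgroup G) : IsElementaryAbelian p (omegaZ p H) := by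
  refine ⟨⟨⟨?_⟩⟩, fun a ha => ha.2.2⟩
  rintro ⟨a, ha⟩ ⟨b, hb⟩
  apply Subtype.ext
  show a * b = b * a
  exact Subgroup.mem_centralizer_iff.mp hb.2.1 a ha.1

instance omegaZ_normal (H : Subgroup G) [hHn : H.Normal] : (omegaZ p H).Normal := by
  constructor
  intro n hn g
  refine ⟨hHn.conj_mem n hn.1 g, ?_, ?_⟩
  · exact (Subgroup.normal_centralizer (H := H)).conj_mem n hn.2.1 g
  · rw [conj_pow, hn.2.2]
    group

theorem le_centralizer_omegaZ (H : Subgroup G) :
    H ≤ Subgroup.centralizer (omegaZ p H : Set G) := by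
  intro h hh
  rw [Subgroup.mem_centralizer_iff]
  intro v hv
  exact (Subgroup.mem_centralizer_iff.mp hv.2.1 h hh).symm

end General3

section Final3

variable {G : Type u} [Group G] [Finite G] {p : ℕ} [hp : Fact p.Prime] {P : Sylow p G}
  {H : Subgroup G} [hHn : H.Normal] {Kb : Subgroup (G ⧸ H)}

theorem Kb_sub_eq (c : MinCex p G P H) (k : KCtx p G P H Kb) (Xb : Subgroup (G ⧸ H))
    (hXK : Xb ≤ Kb) (hXne : Xb ≠ ⊥)
    (hPX : (P : Subgroup G).map (QuotientGroup.mk' H) ≤ Subgroup.normalizer (Xb : Set (G ⧸ H))) :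
    Xb = Kb := by
  have hsurj := QuotientGroup.mk'_surjective H
  by_contra hne
  have h1 : Xb.comap (QuotientGroup.mk' H) = H := by
    apply F2 c k (Xb.comap (QuotientGroup.mk' H))
    · intro h hh
      rw [Subgroup.mem_comap]
      have : QuotientGroup.mk' H h = 1 := (QuotientGroup.eq_one_iff h).mpr hh
      rw [this]
      exact one_mem _
    · exact Subgroup.comap_mono hXK
    · rw [← Subgroup.comap_normalizer_eq_of_surjective Xb hsurj]
      intro u hu
      exact hPX ⟨u, hu, rfl⟩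
    · intro heq
      apply hne
      rw [← Subgroup.map_comap_eq_self_of_surjective hsurj Xb, heq, k.map_eq]
  apply hXne
  rw [← Subgroup.map_comap_eq_self_of_surjective hsurj Xb, h1, eq_bot_iff]
  rintro _ ⟨h, hh, rfl⟩
  rw [Subgroup.mem_bot]
  exact (QuotientGroup.eq_one_iff h).mpr hh

theorem Kb_comm (c : MinCex p G P H) (k : KCtx p G P H Kb) :
    ∀ a ∈ Kb, ∀ b ∈ Kb, a * b = b * a := by
  haveI := k.hn
  have hsurj := QuotientGroup.mk'_surjective H
  set Pb := (P : Subgroup G).map (QuotientGroup.mk' H) with hPb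
  have hPbp : IsPGroup p Pb := P.isPGroup'.map _
  have hsup : Pb ⊔ Kb = ⊤ := by
    rw [sup_comm]
    exact k.compl.sup_eq_top
  have hcop' : (Nat.card Pb).Coprime (Nat.card Kb) := by
    obtain ⟨a, ha⟩ := IsPGroup.iff_card.mp hPbp
    rw [ha]
    exact Nat.Coprime.pow_left a k.hcop.symm
  have hsolv : Group.IsSolvable Pb ∨ Group.IsSolvable Kb := by
    left
    haveI := hPbp.isNilpotent
    infer_instance
  have hKbne : Kb ≠ ⊥ := by
    intro h
    apply K_ne_H c k
    rw [h, MonoidHom.comap_bot, QuotientGroup.ker_mk']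
  have hcard1 : Nat.card Kb ≠ 1 := fun h => hKbne (Subgroup.eq_bot_of_card_eq Kb h)
  obtain ⟨q, hq, hqdvd⟩ := Nat.exists_prime_and_dvd hcard1
  haveI : Fact q.Prime := ⟨hq⟩
  obtain ⟨Q, hQ⟩ := Cfsg.Agent.Lib.Lead.exists_invariant_sylow_ext Pb Kb hsup hcop' hsolv q
  have hQeq : (Q : Subgroup Kb).map Kb.subtype = Kb := by
    apply Kb_sub_eq c k _ (Subgroup.map_subtype_le _) _ hQ
    intro h
    have h2 : (Q : Subgroup Kb) = ⊥ := by
      rw [eq_bot_iff]
      intro x hx
      have : (x : G ⧸ H) ∈ (Q : Subgroup Kb).map Kb.subtype := ⟨x, hx, rfl⟩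
      rw [h, Subgroup.mem_bot] at this
      rw [Subgroup.mem_bot]
      exact Subtype.ext this
    exact Sylow.ne_bot_of_dvd_card Q hqdvd h2
  have hKq : IsPGroup q Kb := by
    have := Q.isPGroup'.map Kb.subtype
    rw [hQeq] at this
    exact this
  haveI : Nontrivial Kb := (Subgroup.nontrivial_iff_ne_bot Kb).mpr hKbne
  haveI hZnt := hKq.center_nontrivial
  have hZeq : (Subgroup.center Kb).map Kb.subtype = Kb := by
    apply Kb_sub_eq c k _ (Subgroup.map_subtype_le _)
    · intro h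
      obtain ⟨z, hz⟩ := exists_ne (1 : Subgroup.center Kb)
      apply hz
      have : ((z : Kb) : G ⧸ H) ∈ (Subgroup.center Kb).map Kb.subtype := ⟨z, z.2, rfl⟩
      rw [h, Subgroup.mem_bot] at this
      apply Subtype.ext
      apply Subtype.ext
      exact this
    · have : ((Subgroup.center Kb).map Kb.subtype).Normal := inferInstance
      rw [Subgroup.normalizer_eq_top_iff.mpr this]
      exact le_top
  intro a ha b hb
  have ha' : a ∈ (Subgroup.center Kb).map Kb.subtype := by rw [hZeq]; exact ha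
  obtain ⟨a', ha'c, rfl⟩ := ha'
  have := Subgroup.mem_center_iff.mp ha'c ⟨b, hb⟩
  exact (congrArg Subtype.val this).symm

theorem K_comm (c : MinCex p G P H) (k : KCtx p G P H Kb) (y z : G)
    (hy : y ∈ Kb.comap (QuotientGroup.mk' H)) (hz : z ∈ Kb.comap (QuotientGroup.mk' H)) :
    y * z * y⁻¹ * z⁻¹ ∈ H := by
  rw [← QuotientGroup.eq_one_iff]
  have h1 := Kb_comm c k _ hy _ hz
  have e : ((y * z * y⁻¹ * z⁻¹ : G) : G ⧸ H) = (QuotientGroup.mk' H y) * (QuotientGroup.mk' H z) *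
      (QuotientGroup.mk' H y)⁻¹ * (QuotientGroup.mk' H z)⁻¹ := by
    simp
  rw [e, h1]
  group

theorem centV_le (c : MinCex p G P H) (k : KCtx p G P H Kb) :
    Subgroup.centralizer (omegaZ p H : Set G) ≤ H := by
  have hCH := cent_le c k
  apply c.normal_pgroup_le _ (isPGroup_of_coprime_trivial _ ?_)
  intro y hy hcop
  have hy' := Subgroup.mem_centralizer_iff.mp hy
  set Z := H ⊓ Subgroup.centralizer (H : Set G) with hZ
  have hZn : Z.Normal := inferInstance
  have hyZ : ∀ z ∈ Z, y * z * y⁻¹ = z := by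
    intro z hz
    obtain ⟨j, hj⟩ := c.hHp ⟨z, hz.1⟩
    have hj' : z ^ (p ^ j) = 1 := by
      have := congrArg Subtype.val hj
      rwa [Subgroup.coe_pow] at this
    refine omega_centralizes hcop (Z := Z) ?_ y (fun z hz => hZn.conj_mem z hz y)
      (pow_orderOf_eq_one y) ?_ j z hz hj'
    · intro a ha b hb
      exact Subgroup.mem_centralizer_iff.mp hb.2 a ha.1
    · intro z hz hzp
      have hzV : z ∈ omegaZ p H := ⟨hz.1, hz.2, hzp⟩
      have := hy' z hzV
      rw [← this]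
      group
  set ZP := (P : Subgroup G) ⊓ Subgroup.centralizer ((P : Subgroup G) : Set G) with hZP
  have hZPZ : ZP ≤ Z := by
    intro z hz
    have h1 : z ∈ Subgroup.centralizer (H : Set G) :=
      Subgroup.centralizer_le (SetLike.coe_subset_coe.mpr c.hHP) hz.2
    exact ⟨hCH h1, h1⟩
  have hyC : y ∈ Subgroup.centralizer (ZP : Set G) := by
    rw [Subgroup.mem_centralizer_iff]
    intro z hz
    have := hyZ z (hZPZ hz)
    calc z * y = (y * z * y⁻¹) * y := by rw [this]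
      _ = y * z := by group
  have hPC : (P : Subgroup G) ≤ Subgroup.centralizer (ZP : Set G) := by
    intro u hu
    rw [Subgroup.mem_centralizer_iff]
    intro z hz
    exact (Subgroup.mem_centralizer_iff.mp hz.2 u hu).symm
  obtain ⟨N₁, hN₁n, hN₁c, j, hj⟩ := npc_iff.mp c.hyp.2
  haveI := hN₁n
  have hmem : (⟨y, hyC⟩ : Subgroup.centralizer (ZP : Set G)) ∈ N₁ := by
    apply mem_of_index_pow hj
    rw [Subgroup.orderOf_mk]
    exact hcop
  have hbot : N₁ = ⊥ := coprime_normal_eq_bot c.hHp hCH (c.hHP.trans hPC) N₁ hN₁c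
  rw [hbot, Subgroup.mem_bot] at hmem
  exact congrArg Subtype.val hmem

theorem exists_noncentral (c : MinCex p G P H) (k : KCtx p G P H Kb) (a : G)
    (haP : a ∈ (P : Subgroup G)) (haH : a ∉ H) :
    ∃ x ∈ Kb.comap (QuotientGroup.mk' H), a * x * a⁻¹ * x⁻¹ ∉ H := by
  by_contra hall
  push Not at hall
  haveI := k.hn
  set X := (Subgroup.centralizer (Kb : Set (G ⧸ H))).comap (QuotientGroup.mk' H) with hX
  have hXn : X.Normal := inferInstance
  have hXmem : ∀ u : G, u ∈ X ↔ ∀ x ∈ Kb.comap (QuotientGroup.mk' H), u * x * u⁻¹ * x⁻¹ ∈ H := by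
    intro u
    rw [hX, Subgroup.mem_comap, Subgroup.mem_centralizer_iff]
    constructor
    · intro h x hx
      rw [← QuotientGroup.eq_one_iff]
      have h1 := h _ hx
      have e : ((u * x * u⁻¹ * x⁻¹ : G) : G ⧸ H) = (QuotientGroup.mk' H u) * (QuotientGroup.mk' H x) *
          (QuotientGroup.mk' H u)⁻¹ * (QuotientGroup.mk' H x)⁻¹ := by
        simp
      rw [e, ← h1]
      group
    · intro h xb hxb
      obtain ⟨x, rfl⟩ := QuotientGroup.mk'_surjective H xb
      have h1 := h x hxb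
      rw [← QuotientGroup.eq_one_iff] at h1
      have e : ((u * x * u⁻¹ * x⁻¹ : G) : G ⧸ H) = (QuotientGroup.mk' H u) * (QuotientGroup.mk' H x) *
          (QuotientGroup.mk' H u)⁻¹ * (QuotientGroup.mk' H x)⁻¹ := by
        simp
      rw [e] at h1
      have h2 := mul_inv_eq_one.mp h1
      have h3 := mul_inv_eq_iff_eq_mul.mp h2
      exact h3.symm
  have hP₁n : (X ⊓ (P : Subgroup G)).Normal := by
    constructor
    intro u hu g
    obtain ⟨x, hx, v, hv, rfl⟩ := k.decomp g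
    have hu' : v * u * v⁻¹ ∈ X ⊓ (P : Subgroup G) :=
      ⟨hXn.conj_mem u hu.1 v,
        (P : Subgroup G).mul_mem ((P : Subgroup G).mul_mem hv hu.2) ((P : Subgroup G).inv_mem hv)⟩
    have e : x * v * u * (x * v)⁻¹ = x * (v * u * v⁻¹) * x⁻¹ := by group
    rw [e]
    refine ⟨hXn.conj_mem _ hu'.1 x, ?_⟩
    have h1 : (v * u * v⁻¹) * x * (v * u * v⁻¹)⁻¹ * x⁻¹ ∈ H := (hXmem _).mp hu'.1 x hx
    have h2 : x * (v * u * v⁻¹) * x⁻¹ * (v * u * v⁻¹)⁻¹ ∈ H := by
      have := inv_mem h1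
      convert this using 1
      group
    have e2 : x * (v * u * v⁻¹) * x⁻¹ = (x * (v * u * v⁻¹) * x⁻¹ * (v * u * v⁻¹)⁻¹) * (v * u * v⁻¹) := by
      group
    rw [e2]
    exact mul_mem (c.hHP h2) hu'.2
  haveI := hP₁n
  have hle : X ⊓ (P : Subgroup G) ≤ H :=
    c.normal_pgroup_le _ (P.isPGroup'.to_le inf_le_right)
  exact haH (hle ⟨(hXmem a).mpr hall, haP⟩)

theorem exists_maxEA_not_le (c : MinCex p G P H) :
    ∃ A ∈ MaxEA p (P : Subgroup G), ¬ A ≤ H := by
  by_contra hall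
  push Not at hall
  have hset : MaxEA p (P : Subgroup G) = MaxEA p H := by
    ext A
    constructor
    · intro hA
      exact ⟨hall A hA, hA.2.1, fun B hB hBea => hA.2.2 B (hB.trans c.hHP) hBea⟩
    · intro hA
      obtain ⟨A₀, hA₀⟩ := maxEA_nonempty p (P : Subgroup G)
      have h1 := hA.2.2 A₀ (hall A₀ hA₀) hA₀.2.1
      exact ⟨hA.1.trans c.hHP, hA.2.1, fun B hB hBea => (hA₀.2.2 B hB hBea).trans h1⟩
  have hTJ : TJ p (P : Subgroup G) = TJ p H := by
    unfold TJ
    rw [hset]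
  have h2 : Subgroup.normalizer (TJ p (P : Subgroup G) : Set G) = ⊤ := by
    rw [hTJ, eq_top_iff, ← Subgroup.normalizer_eq_top_iff.mpr hHn]
    exact normalizer_le_normalizer_TJ _
  exact c.cex (npc_of_eq_top h2 c.hyp.1)

theorem final_contra (c : MinCex p G P H) (k : KCtx p G P H Kb) (hp2 : p ≠ 2) : False := by
  haveI hKn := k.normal
  set V := omegaZ p H with hV
  haveI hVn : V.Normal := omegaZ_normal H
  haveI hVc : IsMulCommutative V := (omegaZ_ea H).1
  have hHV : H ≤ Subgroup.centralizer (V : Set G) := le_centralizer_omegaZ H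
  have hCV : Subgroup.centralizer (V : Set G) ≤ H := centV_le c k
  have hPV : (P : Subgroup G) ≤ Subgroup.normalizer (V : Set G) := by
    rw [Subgroup.normalizer_eq_top_iff.mpr hVn]
    exact le_top
  obtain ⟨A, hA, hAH, hVA⟩ := exists_quadratic P.isPGroup' (omegaZ_ea H)
    ((omegaZ_le H).trans c.hHP) hPV hHV (exists_maxEA_not_le c)
  obtain ⟨a, haA, haH⟩ := SetLike.not_le_iff_exists.mp hAH
  have haP : a ∈ (P : Subgroup G) := hA.1 haA
  obtain ⟨x, hxK, hxH⟩ := exists_noncentral c k a haP haH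
  have hn : 0 < Nat.card Kb := Nat.card_pos
  have hxn : x ^ Nat.card Kb ∈ Subgroup.centralizer (V : Set G) := by
    apply hHV
    rw [← QuotientGroup.eq_one_iff]
    have h1 : (⟨QuotientGroup.mk' H x, hxK⟩ : Kb) ^ Nat.card Kb = 1 := pow_card_eq_one'
    have h2 := congrArg Subtype.val h1
    rw [Subgroup.coe_pow] at h2
    exact h2
  have hx1 : a * x * a⁻¹ ∈ Kb.comap (QuotientGroup.mk' H) := hKn.conj_mem x hxK a
  have hx2 : a * (a * x * a⁻¹) * a⁻¹ ∈ Kb.comap (QuotientGroup.mk' H) := hKn.conj_mem _ hx1 a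
  have hquad : ∀ v ∈ V, Commute a (a * v * a⁻¹ * v⁻¹) :=
    fun v hv => quad_of_normalizes hA.2.1 hVA a haA v hv
  have hres := quad_centralizes V hp.out hp2 (fun v hv => hv.2.2) a x hquad hn k.hcop hxn
    (hHV (K_comm c k _ _ hxK hx1)) (hHV (K_comm c k _ _ hxK hx2)) (hHV (K_comm c k _ _ hx1 hx2))
  exact hxH (hCV hres)

end Final3

section Main

variable {p : ℕ} [hp : Fact p.Prime]

theorem thompson_npc_aux (hp2 : p ≠ 2) : ∀ (n : ℕ) (G : Type u) [Group G] [Finite G],
    Nat.card G = n → ∀ P : Sylow p G, Hyp p G (P : Subgroup G) → HasNormalPComplement p G := by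
  intro n
  induction n using Nat.strong_induction_on with
  | _ n ih =>
    intro G _ _ hn P hyp
    by_contra hcex
    have IH : IHyp p G := by
      intro G' _ _ hlt P' h'
      exact ih (Nat.card G') (hn ▸ hlt) G' rfl P' h'
    obtain ⟨P₁, H, hyp₁, hHn, hHP, hHne, hC⟩ := exists_core IH hcex P hyp
    haveI := hHn
    have c : MinCex p G P₁ H := ⟨IH, hcex, hyp₁, hHP, hHne, hC⟩
    obtain ⟨Kb, hKn, hKc, j, hj⟩ := npc_iff.mp c.quot_npc
    have k : KCtx p G P₁ H Kb := ⟨hKn, hKc, ⟨j, hj⟩⟩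
    exact final_contra c k hp2

theorem thompson_npc (hp2 : p ≠ 2) {G : Type u} [Group G] [Finite G] (P : Sylow p G)
    (h : Hyp p G (P : Subgroup G)) : HasNormalPComplement p G :=
  thompson_npc_aux hp2 (Nat.card G) G rfl P h

end Main

end Cfsg.Agent.Lib.Helper1.TNPC
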