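import Mathlib
import Cfsg.Agent.Lib.Helper1.TNPC.Final3
import Cfsg.Agent.S0132

set_option autoImplicit false

namespace Cfsg.Agent.Lib.Helper1.TNPC.NilMax

open Cfsg Cfsg.Agent.S5306 Cfsg.Agent.Lib.Helper1.TNPC

open scoped Pointwise

universe u

section

variable {G : Type u} [Group G] [Finite G]

theorem npc_of_isNilpotent {p : ℕ} [hp : Fact p.Prime] (hnil : Group.IsNilpotent G) :
    HasNormalPComplement p G := by
  have hall : ∀ (r : ℕ) [Fact r.Prime] (R : Sylow r G), (R : Subgroup G).Normal := by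
    intro r _ R
    infer_instance
  let P : Sylow p G := default
  haveI hPn : (P : Subgroup G).Normal := hall p P
  obtain ⟨Hc, hHc⟩ := Subgroup.exists_left_complement'_of_coprime P.card_coprime_index
  have hcard : Nat.card Hc = (P : Subgroup G).index := by
    have h1 := hHc.card_mul_card
    have h2 := (P : Subgroup G).card_mul_index
    have hpos : 0 < Nat.card (P : Subgroup G) := Nat.card_pos
    nlinarith
  have hcent : Hc ≤ Subgroup.centralizer ((P : Subgroup G) : Set G) := by
    intro x hx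
    apply Cfsg.Agent.S0132.mem_centralizer_sylow_of_all_normal hall P x
    have h1 : orderOf x ∣ Nat.card Hc := by
      have := orderOf_dvd_natCard (⟨x, hx⟩ : Hc)
      rwa [Subgroup.orderOf_mk] at this
    rw [hcard] at h1
    exact Nat.Coprime.coprime_dvd_left h1
      ((hp.out.coprime_iff_not_dvd.mpr P.not_dvd_index).symm)
  refine ⟨P, Hc, ?_, hHc⟩
  constructor
  intro x hx g
  have hmul : (Hc : Set G) * ((P : Subgroup G) : Set G) = Set.univ :=
    (Subgroup.isComplement'_def.mp hHc).mul_eq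
  have hg : g ∈ (Hc : Set G) * ((P : Subgroup G) : Set G) := by
    rw [hmul]
    trivial
  obtain ⟨h, hh, u, hu, rfl⟩ := hg
  have hux : u * x = x * u := (Subgroup.mem_centralizer_iff.mp (hcent hx) u hu)
  have e : h * u * x * (h * u)⁻¹ = h * x * h⁻¹ := by
    calc h * u * x * (h * u)⁻¹ = h * (u * x) * u⁻¹ * h⁻¹ := by group
      _ = h * (x * u) * u⁻¹ * h⁻¹ := by rw [hux]
      _ = h * x * h⁻¹ := by group
  rw [e]
  exact Hc.mul_mem (Hc.mul_mem hh hx) (Hc.inv_mem hh)

theorem normalizer_eq_of_coatom (M : Subgroup G) (hmax : IsCoatom M) (hcore : M.normalCore = ⊥)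
    (C : Subgroup G) (hC : C ≠ ⊥) (hCM : C ≤ M) (hMN : M ≤ Subgroup.normalizer (C : Set G)) :
    Subgroup.normalizer (C : Set G) = M := by
  rcases hmax.le_iff.mp hMN with h | h
  · exfalso
    apply hC
    haveI : C.Normal := Subgroup.normalizer_eq_top_iff.mp h
    have := Subgroup.normal_le_normalCore.mpr hCM
    rw [hcore] at this
    exact le_bot_iff.mp this
  · exact h

theorem sylow_le_of_dvd (M : Subgroup G) (hmax : IsCoatom M) (hnil : Group.IsNilpotent M)
    (hcore : M.normalCore = ⊥) {p : ℕ} [hp : Fact p.Prime] (hdvd : p ∣ Nat.card M) :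
    ∃ P : Sylow p G, (P : Subgroup G) ≤ M ∧ (P : Subgroup G) ≠ ⊥ ∧
      M ≤ Subgroup.normalizer ((P : Subgroup G) : Set G) := by
  let P : Sylow p M := default
  haveI hPn : (P : Subgroup M).Normal := inferInstance
  set PG := (P : Subgroup M).map M.subtype with hPG
  have hPGp : IsPGroup p PG := P.isPGroup'.map _
  have hPGM : PG ≤ M := Subgroup.map_subtype_le _
  have hPGne : PG ≠ ⊥ := by
    intro h
    apply Sylow.ne_bot_of_dvd_card P hdvd
    rw [eq_bot_iff]
    intro x hx
    have : (x : G) ∈ PG := ⟨x, hx, rfl⟩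
    rw [h, Subgroup.mem_bot] at this
    rw [Subgroup.mem_bot]
    exact Subtype.ext this
  have hMN : M ≤ Subgroup.normalizer (PG : Set G) := by
    have h1 := Subgroup.le_normalizer_map (H := (P : Subgroup M)) M.subtype
    rw [Subgroup.normalizer_eq_top_iff.mpr hPn] at h1
    refine le_trans ?_ h1
    intro m hm
    exact ⟨⟨m, hm⟩, Subgroup.mem_top _, rfl⟩
  have hN := normalizer_eq_of_coatom M hmax hcore PG hPGne hPGM hMN
  obtain ⟨Ps, hPs⟩ := hPGp.exists_le_sylow
  have heq : PG = (Ps : Subgroup G) := by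
    by_contra hne
    have hlt : PG < (Ps : Subgroup G) := lt_of_le_of_ne hPs hne
    obtain ⟨z, hzP, hzN, hzR⟩ :=
      Cfsg.Agent.Lib.Helper18.exists_mem_normalizer_not_mem_of_lt_pGroup Ps.isPGroup' hlt
    rw [hN] at hzN
    set Q := (Ps : Subgroup G) ⊓ M with hQ
    have hQp : IsPGroup p (Q.subgroupOf M) := (Ps.isPGroup'.to_le inf_le_left).comap_subtype
    have hPQ : (P : Subgroup M) ≤ Q.subgroupOf M := by
      intro x hx
      rw [Subgroup.mem_subgroupOf]
      exact ⟨hPs ⟨x, hx, rfl⟩, x.2⟩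
    have := P.is_maximal' hQp hPQ
    apply hzR
    have hz : (⟨z, hzN⟩ : M) ∈ Q.subgroupOf M := by
      rw [Subgroup.mem_subgroupOf]
      exact ⟨hzP, hzN⟩
    rw [this] at hz
    exact ⟨⟨z, hzN⟩, hz, rfl⟩
  refine ⟨Ps, ?_, ?_, ?_⟩
  · rw [← heq]; exact hPGM
  · rw [← heq]; exact hPGne
  · rw [← heq]; exact hMN

theorem npc_of_dvd (M : Subgroup G) (hmax : IsCoatom M) (hnil : Group.IsNilpotent M)
    (hodd : Odd (Nat.card M)) (hcore : M.normalCore = ⊥) {p : ℕ} [hp : Fact p.Prime]
    (hdvd : p ∣ Nat.card M) : HasNormalPComplement p G := by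
  have hp2 : p ≠ 2 := by
    rintro rfl
    exact (Nat.not_even_iff_odd.mpr hodd) (even_iff_two_dvd.mpr hdvd)
  obtain ⟨P, hPM, hPne, hMN⟩ := sylow_le_of_dvd M hmax hnil hcore hdvd
  have hMnpc : HasNormalPComplement p ↥M := npc_of_isNilpotent hnil
  apply thompson_npc hp2 P
  constructor
  · have h1 := normalizer_eq_of_coatom M hmax hcore (TJ p (P : Subgroup G))
      (TJ_ne_bot P.isPGroup' hPne) ((TJ_le p _).trans hPM)
      (hMN.trans (normalizer_le_normalizer_TJ _))
    rw [h1]
    exact hMnpc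
  · have h1 := normalizer_eq_of_coatom M hmax hcore
      ((P : Subgroup G) ⊓ Subgroup.centralizer ((P : Subgroup G) : Set G))
      (Z_ne_bot P.isPGroup' hPne) (inf_le_left.trans hPM)
      (hMN.trans (normalizer_le_normalizer_Z _))
    refine npc_of_le ?_ hMnpc
    rw [← h1]
    exact Subgroup.centralizer_le_normalizer _

end

end Cfsg.Agent.Lib.Helper1.TNPC.NilMax
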