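import Mathlib
import Cfsg.Agent.Lib.Helper1.TNPC.NilMax

set_option autoImplicit false

namespace Cfsg.Agent.Lib.Helper1.TNPC.NilMax

open Cfsg Cfsg.Agent.S5306 Cfsg.Agent.Lib.Helper1.TNPC

open scoped Pointwise

universe u

section

variable {G : Type u} [Group G] [Finite G]

def compSet (M : Subgroup G) : Set (Subgroup G) :=
  {N | N.Normal ∧ ∃ p : ℕ, p.Prime ∧ p ∣ Nat.card M ∧ (Nat.card N).Coprime p ∧
    ∃ k : ℕ, N.index = p ^ k}

def compK (M : Subgroup G) : Subgroup G := sInf (compSet M)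

instance compK_normal (M : Subgroup G) : (compK M).Normal := by
  constructor
  intro x hx g
  unfold compK at hx ⊢
  rw [Subgroup.mem_sInf] at hx ⊢
  intro N hN
  exact hN.1.conj_mem x (hx N hN) g

theorem exists_prime_not_dvd (M : Subgroup G) (hmax : IsCoatom M) (hnil : Group.IsNilpotent M)
    (hcore : M.normalCore = ⊥) :
    ∃ q : ℕ, q.Prime ∧ q ∣ Nat.card G ∧ ¬ q ∣ Nat.card M := by
  by_contra hcon
  push Not at hcon
  apply hmax.1
  apply Subgroup.eq_top_of_le_card
  apply Nat.le_of_dvd Nat.card_pos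
  have hG0 : Nat.card G ≠ 0 := Nat.card_pos.ne'
  have hM0 : Nat.card M ≠ 0 := Nat.card_pos.ne'
  rw [← Nat.factorization_le_iff_dvd hG0 hM0]
  intro p
  by_cases hp : p.Prime
  · by_cases hpG : p ∣ Nat.card G
    · haveI : Fact p.Prime := ⟨hp⟩
      have hpM := hcon p hp hpG
      obtain ⟨P, hPM, _, _⟩ := sylow_le_of_dvd M hmax hnil hcore hpM
      have h1 : Nat.card (P : Subgroup G) ∣ Nat.card M := Subgroup.card_dvd_of_le hPM
      rw [Sylow.card_eq_multiplicity] at h1
      exact (hp.pow_dvd_iff_le_factorization hM0).mp h1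
    · rw [Nat.factorization_eq_zero_of_not_dvd hpG]
      exact Nat.zero_le _
  · rw [Nat.factorization_eq_zero_of_not_prime _ hp]
    exact Nat.zero_le _

theorem compK_coprime (M : Subgroup G) (hmax : IsCoatom M) (hnil : Group.IsNilpotent M)
    (hodd : Odd (Nat.card M)) (hcore : M.normalCore = ⊥) :
    (Nat.card M).Coprime (Nat.card (compK M)) := by
  apply Nat.coprime_of_dvd
  intro p hp hpM
  haveI : Fact p.Prime := ⟨hp⟩
  obtain ⟨N, hNn, hNc, k, hk⟩ := npc_iff.mp (npc_of_dvd M hmax hnil hodd hcore hpM)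
  have hN : N ∈ compSet M := ⟨hNn, p, hp, hpM, hNc, k, hk⟩
  have hle : compK M ≤ N := sInf_le hN
  have h1 : Nat.card (compK M) ∣ Nat.card N := Subgroup.card_dvd_of_le hle
  intro hpK
  have := hpK.trans h1
  exact (hp.coprime_iff_not_dvd.mp hNc.symm) this

theorem mem_compK_of_prime_order (M : Subgroup G) {q : ℕ} (hq : q.Prime)
    (hqM : ¬ q ∣ Nat.card M) (x : G) (hx : orderOf x = q) : x ∈ compK M := by
  unfold compK
  rw [Subgroup.mem_sInf]
  rintro N ⟨hNn, p, hp, hpM, _, k, hk⟩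
  haveI := hNn
  haveI : Fact p.Prime := ⟨hp⟩
  apply mem_of_index_pow hk
  rw [hx]
  rw [Nat.coprime_primes hq hp]
  rintro rfl
  exact hqM hpM

theorem solvable_of_corefree (M : Subgroup G) (hmax : IsCoatom M) (hnil : Group.IsNilpotent M)
    (hodd : Odd (Nat.card M)) (hcore : M.normalCore = ⊥) : Group.IsSolvable G := by
  obtain ⟨q, hq, hqG, hqM⟩ := exists_prime_not_dvd M hmax hnil hcore
  haveI : Fact q.Prime := ⟨hq⟩
  set K := compK M with hK
  have hcop := compK_coprime M hmax hnil hodd hcore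
  obtain ⟨x, hx⟩ := exists_prime_orderOf_dvd_card' q hqG
  have hxK : x ∈ K := mem_compK_of_prime_order M hq hqM x hx
  have hqK : q ∣ Nat.card K := by
    have := orderOf_dvd_natCard (⟨x, hxK⟩ : K)
    rwa [Subgroup.orderOf_mk, hx] at this
  have hdisj : M ⊓ K = ⊥ := (Subgroup.disjoint_of_coprime_natCard hcop).eq_bot
  have hKne : K ≠ ⊥ := by
    intro h
    rw [h, Subgroup.card_bot] at hqK
    exact hq.one_lt.ne' (Nat.dvd_one.mp hqK)
  have hsup : M ⊔ K = ⊤ := by
    rcases hmax.le_iff.mp (le_sup_left : M ≤ M ⊔ K) with h | h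
    · exact h
    · exfalso
      apply hKne
      have hKM : K ≤ M := by
        rw [← h]
        exact le_sup_right
      rw [eq_bot_iff, ← hdisj]
      exact le_inf hKM le_rfl
  haveI hMsolv : Group.IsSolvable M := by
    haveI := hnil
    infer_instance
  obtain ⟨Q, hQ⟩ := Cfsg.Agent.Lib.Lead.exists_invariant_sylow_ext M K hsup hcop (Or.inl hMsolv) q
  set Q' := (Q : Subgroup K).map K.subtype with hQ'
  have hQ'K : Q' ≤ K := Subgroup.map_subtype_le _
  have hQ'ne : Q' ≠ ⊥ := by
    intro h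
    apply Sylow.ne_bot_of_dvd_card Q hqK
    rw [eq_bot_iff]
    intro y hy
    have : (y : G) ∈ Q' := ⟨y, hy, rfl⟩
    rw [h, Subgroup.mem_bot] at this
    rw [Subgroup.mem_bot]
    exact Subtype.ext this
  have hsup' : M ⊔ Q' = ⊤ := by
    rcases hmax.le_iff.mp (le_sup_left : M ≤ M ⊔ Q') with h | h
    · exact h
    · exfalso
      apply hQ'ne
      have hQM : Q' ≤ M := by
        rw [← h]
        exact le_sup_right
      rw [eq_bot_iff, ← hdisj]
      exact le_inf hQM hQ'K
  have hQ'n : Q'.Normal := by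
    rw [← Subgroup.normalizer_eq_top_iff, eq_top_iff, ← hsup']
    exact sup_le hQ Subgroup.le_normalizer
  haveI := hQ'n
  haveI hQsolv : Group.IsSolvable Q' := by
    have hQ'p : IsPGroup q Q' := Q.isPGroup'.map _
    haveI := hQ'p.isNilpotent
    infer_instance
  haveI hquot : Group.IsSolvable (G ⧸ Q') := by
    apply Group.isSolvable_of_surjective (f := (QuotientGroup.mk' Q').comp M.subtype)
    intro y
    obtain ⟨g, rfl⟩ := QuotientGroup.mk'_surjective Q' y
    have hg : g ∈ ((M ⊔ Q' : Subgroup G) : Set G) := by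
      rw [hsup']
      trivial
    rw [Subgroup.mul_normal] at hg
    obtain ⟨m, hm, u, hu, rfl⟩ := hg
    refine ⟨⟨m, hm⟩, ?_⟩
    show QuotientGroup.mk' Q' m = QuotientGroup.mk' Q' (m * u)
    have hu1 : QuotientGroup.mk' Q' u = 1 := (QuotientGroup.eq_one_iff u).mpr hu
    rw [map_mul, hu1, mul_one]
  apply Group.isSolvable_of_ker_le_range Q'.subtype (QuotientGroup.mk' Q')
  rw [QuotientGroup.ker_mk', Subgroup.range_subtype]

end

end Cfsg.Agent.Lib.Helper1.TNPC.NilMax
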